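import Mathlib

/-!
# Two class sizes of `p`-regular elements: the module lemmas

Facts about fixed point free automorphisms of prime order with trivial norm.
-/

set_option autoImplicit false
set_option linter.unusedSectionVars false

namespace Cfsg.Agent.ClassSize.RegTwo

open Finset Polynomial

section Conj

open scoped IsMulCommutative

variable {H : Type*} [Group H] (V : Subgroup H) [IsMulCommutative V]

/-- Conjugation on a commutative subgroup, as additive endomorphisms. -/
def conjEnd : Subgroup.normalizer (V : Set H) →* AddMonoid.End (Additive V) where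
  toFun n := MonoidHom.toAdditive (V.normalizerMonoidHom n).toMonoidHom
  map_one' := by
    rw [map_one]
    rfl
  map_mul' a b := by
    rw [map_mul]
    rfl

theorem conjEnd_apply (n : Subgroup.normalizer (V : Set H)) (v : Additive V) :
    ((Additive.toMul (conjEnd V n v) : V) : H) = (n : H) * (Additive.toMul v : V) * (n : H)⁻¹ := rfl

theorem norm_eq_zero {s : ℕ} {n : Subgroup.normalizer (V : Set H)} (hs : (n : H) ^ s = 1)
    (hfix : ∀ v ∈ V, (n : H) * v * (n : H)⁻¹ = v → v = 1) :
    ∑ i ∈ range s, conjEnd V n ^ i = 0 := by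
  have hn : n ^ s = 1 := Subtype.ext (by simpa using hs)
  have h0 : (conjEnd V n - 1) * ∑ i ∈ range s, conjEnd V n ^ i = 0 := by
    rw [mul_geom_sum, ← map_pow, hn, map_one, sub_self]
  refine DFunLike.ext _ _ fun v => ?_
  set u := (∑ i ∈ range s, conjEnd V n ^ i) v with hu
  have h1 : conjEnd V n u = u := by
    exact sub_eq_zero.1 (DFunLike.congr_fun h0 v)
  have h2 : ((Additive.toMul u : V) : H) = 1 := hfix _ (Additive.toMul u).2 (by
    rw [← conjEnd_apply, h1])
  exact Additive.toMul.injective (Subtype.ext h2)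

end Conj

variable {R : Type*} [Ring R]

/-- A pair of commuting elements all whose cyclic norms vanish. -/
theorem natCast_eq_zero_of_norms {s : ℕ} (a b : R) (hab : Commute a b)
    (h1 : ∀ j, 0 < j → j < s → ∑ i ∈ range s, (a ^ j) ^ i = 0)
    (h2 : ∀ i < s, ∑ j ∈ range s, (a ^ i * b) ^ j = 0) : (s : R) = 0 := by
  have h : ∑ j ∈ range s, ∑ i ∈ range s, (a ^ i * b) ^ j = 0 := by
    rw [sum_comm]
    exact sum_eq_zero fun i hi => h2 i (mem_range.1 hi)
  rw [sum_eq_single 0] at h
  · simpa using h
  · intro j hj hj0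
    have : ∀ i, (a ^ i * b) ^ j = (a ^ j) ^ i * b ^ j := fun i => by
      rw [(hab.pow_left i).mul_pow, ← pow_mul, ← pow_mul, mul_comm i j]
    simp only [this, ← sum_mul]
    rw [h1 j (Nat.pos_of_ne_zero hj0) (mem_range.1 hj), zero_mul]
  · intro h0
    simp only [mem_range, not_lt, Nat.le_zero] at h0
    simp [h0]

/-- If all orbit sums under a subgroup of units vanish then so does the total sum. -/
theorem sum_units_eq_zero {U M : Type*} [Group U] [Fintype U] [AddCommGroup M] (β : U) (f : U → M)
    (h : ∀ u, ∑ i ∈ range (orderOf β), f (u * β ^ i) = 0) : ∑ u, f u = 0 := by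
  classical
  let F : (U ⧸ Subgroup.zpowers β) × Fin (orderOf β) → U := fun x => x.1.out * β ^ (x.2 : ℕ)
  have hF : Function.Bijective F := by
    rw [Fintype.bijective_iff_injective_and_card]
    refine ⟨fun x y hxy => ?_, ?_⟩
    · have h1 : x.1 = y.1 := by
        have hx : ((F x : U) : U ⧸ Subgroup.zpowers β) = x.1 := by
          rw [QuotientGroup.mk_mul_of_mem _ (Subgroup.npow_mem_zpowers β _),
            QuotientGroup.out_eq']
        have hy : ((F y : U) : U ⧸ Subgroup.zpowers β) = y.1 := by
          rw [QuotientGroup.mk_mul_of_mem _ (Subgroup.npow_mem_zpowers β _),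
            QuotientGroup.out_eq']
        rw [← hx, ← hy, hxy]
      refine Prod.ext h1 (Fin.ext ?_)
      simp only [F, h1, mul_right_inj] at hxy
      exact pow_injOn_Iio_orderOf x.2.2 y.2.2 hxy
    · rw [← Nat.card_eq_fintype_card, Nat.card_prod, Nat.card_fin, ← Nat.card_zpowers,
        ← Subgroup.index_eq_card, Subgroup.index_mul_card, Nat.card_eq_fintype_card]
  rw [← hF.sum_comp f, Fintype.sum_prod_type]
  refine sum_eq_zero fun q _ => ?_
  rw [← h q.out, Finset.sum_range]

section Torus

variable {r s : ℕ} [Fact r.Prime] [Fact s.Prime] {V : Type*} [AddCommGroup V] [Module (ZMod r) V]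
  [Finite V]

theorem finrank_ker_pow_le (d : Module.End (ZMod r) V)
    (h1 : Module.finrank (ZMod r) (LinearMap.ker d) ≤ 1) (i : ℕ) :
    Module.finrank (ZMod r) (LinearMap.ker (d ^ i)) ≤ i := by
  induction i with
  | zero =>
    rw [pow_zero, Module.End.one_eq_id, LinearMap.ker_id, finrank_bot]
  | succ i ih =>
    set K := LinearMap.ker (d ^ (i + 1))
    set f : K →ₗ[ZMod r] V := (d ^ i).domRestrict K
    have hr : LinearMap.range f ≤ LinearMap.ker d := by
      rintro _ ⟨⟨v, hv⟩, rfl⟩
      rw [LinearMap.mem_ker]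
      show d ((d ^ i) v) = 0
      rw [← Module.End.mul_apply, ← pow_succ']
      exact hv
    have hk : Module.finrank (ZMod r) (LinearMap.ker f) ≤
        Module.finrank (ZMod r) (LinearMap.ker (d ^ i)) := by
      refine LinearMap.finrank_le_finrank_of_injective
        (f := (K.subtype.comp (LinearMap.ker f).subtype).codRestrict (LinearMap.ker (d ^ i))
          fun v => LinearMap.mem_ker.2 (LinearMap.mem_ker.1 v.2)) ?_
      intro u v huv
      exact Subtype.ext (Subtype.ext (congrArg Subtype.val huv :))
    have h2 := LinearMap.finrank_range_add_finrank_ker f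
    have h3 := Submodule.finrank_mono hr
    omega

/-- A trivial norm of order `r` with one dimensional fixed space bounds the dimension. -/
theorem finrank_le_of_norm (g : Module.End (ZMod r) V) (hg : ∑ i ∈ range r, g ^ i = 0)
    (h1 : Module.finrank (ZMod r) (LinearMap.ker (g - 1)) ≤ 1) :
    Module.finrank (ZMod r) V ≤ r - 1 := by
  have hp : (X - 1 : (ZMod r)[X]) ^ (r - 1) = ∑ i ∈ range r, X ^ i := by
    refine mul_right_cancel₀ (X_sub_C_ne_zero (1 : ZMod r)) ?_
    rw [C_1, ← pow_succ, Nat.sub_add_cancel (Fact.out (p := r.Prime)).one_le, geom_sum_mul,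
      sub_pow_char, one_pow]
  have h2 : (g - 1) ^ (r - 1) = 0 := by
    have := congrArg (aeval g) hp
    simpa [hg] using this
  have h3 := finrank_ker_pow_le (g - 1) h1 (r - 1)
  rwa [h2, LinearMap.ker_zero, finrank_top] at h3

/-- An automorphism of prime order with trivial norm, similar to all its powers, needs dimension
`s - 1`. -/
theorem le_finrank_of_similar [Nontrivial V] (hrs : r ≠ s) (a : Module.End (ZMod r) V)
    (ha : ∑ i ∈ range s, a ^ i = 0)
    (hsim : ∀ e : ℕ, ¬ s ∣ e → ∃ t : (Module.End (ZMod r) V)ˣ,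
      (t : Module.End (ZMod r) V) * a = a ^ e * t) :
    s - 1 ≤ Module.finrank (ZMod r) V := by
  classical
  have hs := Fact.out (p := s.Prime)
  have hint : IsIntegral (ZMod r) a := Algebra.IsIntegral.isIntegral a
  set h := minpoly (ZMod r) a with hh
  have hdeg : h.natDegree ≤ Module.finrank (ZMod r) V := by
    rw [← LinearMap.charpoly_natDegree a]
    exact natDegree_le_of_dvd (minpoly.dvd _ _ (LinearMap.aeval_self_charpoly a))
      (LinearMap.charpoly_monic a).ne_zero
  refine le_trans ?_ hdeg
  have hdvd : h ∣ ∑ i ∈ range s, X ^ i := minpoly.dvd _ _ (by simpa using ha)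
  have he : ∀ e : ℕ, ¬ s ∣ e → h ∣ h.comp (X ^ e) := by
    intro e he
    obtain ⟨t, ht⟩ := hsim e he
    refine minpoly.dvd _ _ ?_
    have hc : ((t : Module.End (ZMod r) V) * a * ↑t⁻¹) = a ^ e := by
      rw [ht, mul_assoc, t.mul_inv, mul_one]
    rw [aeval_comp, aeval_X_pow, ← hc]
    have hconj : ∀ P : (ZMod r)[X], aeval ((t : Module.End (ZMod r) V) * a * ↑t⁻¹) P =
        (t : Module.End (ZMod r) V) * aeval a P * ↑t⁻¹ := by
      intro P
      induction P using Polynomial.induction_on' with
      | add P Q hP hQ => rw [map_add, map_add, hP, hQ, mul_add, add_mul]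
      | monomial n c =>
        rw [aeval_monomial, aeval_monomial, Units.conj_pow, ← Algebra.smul_def, ← Algebra.smul_def,
          Algebra.mul_smul_comm, Algebra.smul_mul_assoc]
    rw [hconj, hh, minpoly.aeval, mul_zero, zero_mul]
  let A := AlgebraicClosure (ZMod r)
  obtain ⟨ζ, hζ⟩ := IsAlgClosed.exists_aeval_eq_zero A h (minpoly.degree_pos hint).ne'
  have hgs : ∑ i ∈ range s, ζ ^ i = 0 := by
    obtain ⟨c, hc⟩ := hdvd
    have := congrArg (aeval ζ) hc
    simpa [hζ] using this
  have hs0 : ((s : ℕ) : A) ≠ 0 := fun h0 => hrs ((Nat.prime_dvd_prime_iff_eq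
    (Fact.out (p := r.Prime)) hs).1 ((CharP.cast_eq_zero_iff A r s).1 h0))
  have hζ1 : ζ ≠ 1 := fun h1 => hs0 (by simpa [h1] using hgs)
  have hζs : ζ ^ s = 1 := by
    have := geom_sum_mul ζ s
    rw [hgs, zero_mul] at this
    exact (sub_eq_zero.1 this.symm)
  have hord : orderOf ζ = s := orderOf_eq_prime hζs hζ1
  have hsub : ((Ico 1 s).image fun e => ζ ^ e) ⊆ (h.aroots A).toFinset := by
    intro x hx
    obtain ⟨e, he', rfl⟩ := mem_image.1 hx
    rw [mem_Ico] at he'
    rw [Multiset.mem_toFinset, mem_aroots]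
    refine ⟨minpoly.ne_zero hint, ?_⟩
    obtain ⟨c, hc⟩ := he e (fun hd => by have := Nat.le_of_dvd (by omega) hd; omega)
    have := congrArg (aeval ζ) hc
    rw [aeval_comp, aeval_X_pow, map_mul, hζ, zero_mul] at this
    exact this
  calc s - 1 = ((Ico 1 s).image fun e => ζ ^ e).card := by
        rw [card_image_of_injOn, Nat.card_Ico]
        intro i hi j hj hij
        simp only [coe_Ico, Set.mem_Ico] at hi hj
        exact pow_injOn_Iio_orderOf (by rw [Set.mem_Iio, hord]; omega)
          (by rw [Set.mem_Iio, hord]; omega) hij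
    _ ≤ (h.aroots A).toFinset.card := card_le_card hsub
    _ ≤ Multiset.card (h.aroots A) := Multiset.toFinset_card_le _
    _ ≤ h.natDegree := (Polynomial.card_roots' _).trans natDegree_map_le

end Torus

end Cfsg.Agent.ClassSize.RegTwo
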