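import Cfsg.Agent.Lib.ClassSize.TwoSteps.Main

/-!
# Two class sizes of `p`-regular elements: basics

If all noncentral `p`-regular elements have class size `m` and two primes other than `p` occur among
their orders, then commuting noncentral `p`-regular elements have the same centraliser.
-/

set_option autoImplicit false
set_option linter.style.haveILetI false
set_option linter.unusedSectionVars false

namespace Cfsg.Agent.ClassSize.RegTwo

open Subgroup
open Cfsg.Agent.ClassSize.CoprimeTop (cent cl mem_cent cent_comm self_mem_cent cent_mul_coprime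
  eq_of_le_of_cl cent_conj_mem cent_le_of_mem_zpowers)
open Cfsg.Agent.ClassSize.TwoSteps (IsPEl pp exists_pp_subgroup card_le_pp mem_of_normal pp_mul_cl
  mem_of_forall_primary conj_notMem_center mem_normalizer_of_conj isPEl_of_mem)

variable {G : Type*} [Group G] [Finite G] {p m q r : ℕ}

/-- Order prime to `p`. -/
def Reg (p : ℕ) (x : G) : Prop := (orderOf x).Coprime p

/-- All noncentral `p`-regular elements have class size `m`; two primes other than `p` have noncentral
elements. -/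
structure Hyp (G : Type*) [Group G] (p m : ℕ) : Prop where
  hp : p.Prime
  cl_eq : ∀ x : G, Reg p x → x ∉ center G → cl x = m
  other : ∀ q : ℕ, ∃ r : ℕ, r.Prime ∧ r ≠ p ∧ r ≠ q ∧ ∃ e : G, IsPEl r e ∧ e ∉ center G

theorem reg_of_isPEl (hp : p.Prime) (hr : r.Prime) (hrp : r ≠ p) {g : G} (hg : IsPEl r g) :
    Reg p g := by
  obtain ⟨k, hk⟩ := hg.orderOf_dvd
  exact (((Nat.coprime_primes hr hp).2 hrp).pow_left k).coprime_dvd_left hk

theorem Reg.of_mem_zpowers {g y : G} (hg : Reg p g) (hy : y ∈ zpowers g) : Reg p y :=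
  hg.coprime_dvd_left (orderOf_dvd_of_mem_zpowers hy)

theorem Reg.conj {g : G} (hg : Reg p g) (h : G) : Reg p (h * g * h⁻¹) := by
  rw [Reg, show orderOf (h * g * h⁻¹) = orderOf g from
    orderOf_injective (MulAut.conj h).toMonoidHom (MulAut.conj h).injective g]
  exact hg

theorem eq_one_of_isPEl_self {g : G} (hg : IsPEl p g) (hr : Reg p g) : g = 1 := by
  obtain ⟨k, hk⟩ := hg.orderOf_dvd
  exact orderOf_eq_one_iff.1 (Nat.eq_one_of_dvd_coprimes (hr.pow_right k) dvd_rfl hk)

/-- Outside a subgroup there is a primary part. -/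
theorem exists_primary {g : G} {C : Subgroup G} (hg : Reg p g) (hC : g ∉ C) :
    ∃ s : ℕ, s.Prime ∧ s ≠ p ∧ ∃ y ∈ zpowers g, IsPEl s y ∧ y ∉ C := by
  by_contra h
  push Not at h
  refine hC (mem_of_forall_primary fun s hs y hy hys => ?_)
  by_cases hsp : s = p
  · rw [eq_one_of_isPEl_self (hsp ▸ hys) (hg.of_mem_zpowers hy)]
    exact one_mem C
  · exact h s hs hsp y hy hys

theorem isPEl_of_conj_eq {g : G} (hg : IsPEl r g) (h : G) : IsPEl r (h * g * h⁻¹) := hg.conj h

theorem notMem_center_of_cent_eq {x y : G} (hx : x ∉ center G) (h : cent x = cent y) :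
    y ∉ center G := fun hy => hx (mem_center_iff.2 fun v => by
  have : v ∈ cent x := h ▸ mem_cent.2 (mem_center_iff.1 hy v).symm
  exact (mem_cent.1 this).symm)

/-- `h * g * h⁻¹ * g⁻¹` central with `g` of order prime to that of `h`: they commute. -/
theorem commute_of_commutator_mem_center {g w : G} (hco : (orderOf g).Coprime (orderOf w))
    (h : g * w * g⁻¹ * w⁻¹ ∈ center G) : g * w = w * g := by
  set z := g * w * g⁻¹ * w⁻¹ with hz
  have hc : ∀ v : G, Commute z v := fun v => (mem_center_iff.1 h v).symm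
  have h1 : g * w * g⁻¹ = z * w := by rw [hz]; group
  have hpow : ∀ n : ℕ, g ^ n * w * (g ^ n)⁻¹ = z ^ n * w := by
    intro n
    induction n with
    | zero => simp
    | succ n ih =>
      calc g ^ (n + 1) * w * (g ^ (n + 1))⁻¹ = g * (g ^ n * w * (g ^ n)⁻¹) * g⁻¹ := by
            rw [pow_succ']; group
        _ = g * z ^ n * w * g⁻¹ := by rw [ih]; group
        _ = z ^ n * (g * w * g⁻¹) := by rw [((hc g).pow_left n).symm.eq]; group
        _ = z ^ n * (z * w) := congrArg (z ^ n * ·) h1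
        _ = z ^ (n + 1) * w := (mul_assoc _ _ _).symm.trans (congrArg (· * w) (pow_succ z n).symm)
  have hzg : orderOf z ∣ orderOf g := by
    refine orderOf_dvd_of_pow_eq_one ?_
    have := hpow (orderOf g)
    rw [pow_orderOf_eq_one, one_mul, inv_one, mul_one] at this
    exact mul_eq_right.1 this.symm
  have hzw : orderOf z ∣ orderOf w := by
    refine orderOf_dvd_of_pow_eq_one ?_
    have h2 : (z * w) ^ orderOf w = 1 := by
      rw [← h1, conj_pow, pow_orderOf_eq_one, mul_one, mul_inv_cancel]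
    rwa [(hc w).mul_pow, pow_orderOf_eq_one, mul_one] at h2
  have h3 : z = 1 := orderOf_eq_one_iff.1 (Nat.eq_one_of_dvd_coprimes hco hzg hzw)
  calc g * w = z * (w * g) := by rw [hz]; group
    _ = w * g := by rw [h3, one_mul]

namespace Hyp

theorem cent_eq_of_le (S : Hyp G p m) {x y : G} (hx : Reg p x) (hxZ : x ∉ center G) (hy : Reg p y)
    (hyZ : y ∉ center G) (h : cent x ≤ cent y) : cent x = cent y :=
  eq_of_le_of_cl h (le_of_eq ((S.cl_eq x hx hxZ).trans (S.cl_eq y hy hyZ).symm))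

theorem exists_primary_cent (S : Hyp G p m) {x : G} (hx : Reg p x) (hxZ : x ∉ center G) :
    ∃ s : ℕ, s.Prime ∧ s ≠ p ∧ ∃ y, IsPEl s y ∧ Reg p y ∧ y ∉ center G ∧ cent x = cent y := by
  obtain ⟨s, hs, hsp, y, hy, hys, hyZ⟩ := exists_primary hx hxZ
  exact ⟨s, hs, hsp, y, hys, hx.of_mem_zpowers hy, hyZ,
    S.cent_eq_of_le hx hxZ (hx.of_mem_zpowers hy) hyZ (cent_le_of_mem_zpowers hy)⟩

theorem cent_eq_coprime (S : Hyp G p m) {a b : G} (ha : Reg p a) (haZ : a ∉ center G) (hb : Reg p b)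
    (hbZ : b ∉ center G) (hab : a * b = b * a) (hco : (orderOf a).Coprime (orderOf b)) :
    cent a = cent b := by
  have h1 := cent_mul_coprime hab hco
  have hr : Reg p (a * b) :=
    (ha.mul_left hb).coprime_dvd_left ((show Commute a b from hab).orderOf_mul_dvd_mul_orderOf)
  have hZ : a * b ∉ center G := fun h => haZ (mem_center_iff.2 fun v => by
    have hv : v ∈ cent (a * b) := mem_cent.2 (mem_center_iff.1 h v).symm
    rw [h1] at hv
    exact (mem_cent.1 hv.1).symm)
  rw [← S.cent_eq_of_le hr hZ ha haZ (h1 ▸ inf_le_left),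
    S.cent_eq_of_le hr hZ hb hbZ (h1 ▸ inf_le_right)]

theorem pp_cent_eq (S : Hyp G p m) [Fact r.Prime] {x y : G} (hx : Reg p x) (hxZ : x ∉ center G)
    (hy : Reg p y) (hyZ : y ∉ center G) : pp r (cent x) = pp r (cent y) := by
  have h1 := pp_mul_cl (p := r) x
  rw [← pp_mul_cl (p := r) y, S.cl_eq x hx hxZ, S.cl_eq y hy hyZ] at h1
  exact Nat.eq_of_mul_eq_mul_right (pow_pos (Fact.out (p := r.Prime)).pos _) h1

/-- A centraliser contains noncentral elements of every possible prime. -/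
theorem exists_mem_cent (S : Hyp G p m) (hr : r.Prime) (hrp : r ≠ p) {e x : G} (he : IsPEl r e)
    (heZ : e ∉ center G) (hx : Reg p x) (hxZ : x ∉ center G) :
    ∃ z ∈ cent x, IsPEl r z ∧ z ∉ center G := by
  haveI := Fact.mk hr
  have her := reg_of_isPEl S.hp hr hrp he
  obtain ⟨W, hW, hWr, hWc⟩ := exists_pp_subgroup r (cent x)
  by_contra h
  push Not at h
  have hWZ : W ≤ center G := fun w hw => h w (hW hw) (isPEl_of_mem hWr hw)
  refine heZ (mem_of_normal (C := center G) (H := cent e) (CoprimeTop.center_le_cent e) ?_ he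
    (self_mem_cent e))
  rw [← S.pp_cent_eq hx hxZ her heZ, ← hWc]
  exact card_le_pp hWZ hWr

/-- Commuting noncentral regular elements have the same centraliser. -/
theorem cent_eq_of_commute (S : Hyp G p m) {x y : G} (hx : Reg p x) (hxZ : x ∉ center G)
    (hy : Reg p y) (hyZ : y ∉ center G) (hxy : x * y = y * x) : cent x = cent y := by
  obtain ⟨s, hs, hsp, x', hx's, hx'r, hx'Z, hxx⟩ := S.exists_primary_cent hx hxZ
  obtain ⟨t, ht, htp, y', hy't, hy'r, hy'Z, hyy⟩ := S.exists_primary_cent hy hyZ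
  rw [hxx, hyy]
  have hy'x : y' ∈ cent x' := by
    have h1 : y ∈ cent x' := hxx ▸ mem_cent.2 hxy
    have h2 : x' ∈ cent y' := hyy ▸ cent_comm.1 h1
    exact cent_comm.1 h2
  by_cases hst : s = t
  · subst hst
    obtain ⟨l, hl, hlp, hls, e, he, heZ⟩ := S.other s
    obtain ⟨z, hz, hzl, hzZ⟩ := S.exists_mem_cent hl hlp he heZ hx'r hx'Z
    have hzr := reg_of_isPEl S.hp hl hlp hzl
    have h1 : cent x' = cent z := S.cent_eq_coprime hx'r hx'Z hzr hzZ (mem_cent.1 hz)
      (hx's.coprime hs hl (Ne.symm hls) hzl)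
    rw [h1] at hy'x ⊢
    exact S.cent_eq_coprime hzr hzZ hy'r hy'Z (mem_cent.1 hy'x) (hzl.coprime hl hs hls hy't)
  · exact S.cent_eq_coprime hx'r hx'Z hy'r hy'Z (mem_cent.1 hy'x) (hx's.coprime hs ht hst hy't)

theorem cent_eq_of_mem (S : Hyp G p m) {x g : G} (hx : Reg p x) (hxZ : x ∉ center G)
    (hg : Reg p g) (hgZ : g ∉ center G) (h : g ∈ cent x) : cent g = cent x :=
  (S.cent_eq_of_commute hx hxZ hg hgZ (mem_cent.1 h)).symm

theorem commute_of_mem (S : Hyp G p m) {x a b : G} (hx : Reg p x) (hxZ : x ∉ center G)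
    (ha : Reg p a) (ha' : a ∈ cent x) (hb' : b ∈ cent x) : a * b = b * a := by
  by_cases haZ : a ∈ center G
  · exact (mem_center_iff.1 haZ b).symm
  · rw [← S.cent_eq_of_mem hx hxZ ha haZ ha'] at hb'
    exact mem_cent.1 hb'

/-- An element taking some noncentral regular element of `cent x` into `cent x` normalises it. -/
theorem mem_normalizer (S : Hyp G p m) {x a g : G} (hx : Reg p x) (hxZ : x ∉ center G)
    (ha : Reg p a) (haZ : a ∉ center G) (ha' : a ∈ cent x) (hga : g * a * g⁻¹ ∈ cent x) :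
    g ∈ normalizer (cent x : Set G) := by
  have e1 := S.cent_eq_of_mem hx hxZ ha haZ ha'
  have e2 := S.cent_eq_of_mem hx hxZ (ha.conj g) (conj_notMem_center haZ g) hga
  refine mem_normalizer_iff.2 fun v => ?_
  conv_rhs => rw [← e2, cent_conj_mem, e1]
  simp [mul_assoc]

end Hyp

/-- The `r`-elements of a centraliser. -/
def rpart (r : ℕ) (x : G) : Subgroup G := closure {g | g ∈ cent x ∧ IsPEl r g}

theorem rpart_le (r : ℕ) (x : G) : rpart r x ≤ cent x := (closure_le _).2 fun _ h => h.1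

theorem mem_rpart_of {x g : G} (hg : g ∈ cent x) (hr : IsPEl r g) : g ∈ rpart r x :=
  subset_closure ⟨hg, hr⟩

namespace Hyp

variable (S : Hyp G p m) {x : G} (hx : Reg p x) (hxZ : x ∉ center G) (hr : r.Prime) (hrp : r ≠ p)

include S hx hxZ hr hrp

theorem mem_rpart {g : G} : g ∈ rpart r x ↔ g ∈ cent x ∧ IsPEl r g := by
  refine ⟨fun h => ?_, fun h => mem_rpart_of h.1 h.2⟩
  induction h using closure_induction with
  | mem g hg => exact hg
  | one => exact ⟨one_mem _, 0, one_pow _⟩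
  | mul a b _ _ ha hb =>
    refine ⟨mul_mem ha.1 hb.1, ?_⟩
    obtain ⟨i, hi⟩ := ha.2
    obtain ⟨j, hj⟩ := hb.2
    refine ⟨i + j, ?_⟩
    rw [(show Commute a b from
        S.commute_of_mem hx hxZ (reg_of_isPEl S.hp hr hrp ha.2) ha.1 hb.1).mul_pow,
      pow_add, pow_mul, hi, one_pow, one_mul, mul_comm, pow_mul, hj, one_pow]
  | inv a _ ha => exact ⟨inv_mem ha.1, ha.2.imp fun _ h => by rw [inv_pow, h, inv_one]⟩

theorem reg_of_rpart {g : G} (hg : g ∈ rpart r x) : Reg p g :=
  reg_of_isPEl S.hp hr hrp ((S.mem_rpart hx hxZ hr hrp).1 hg).2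

theorem rpart_comm {a b : G} (ha : a ∈ rpart r x) (hb : b ∈ cent x) : a * b = b * a :=
  S.commute_of_mem hx hxZ (S.reg_of_rpart hx hxZ hr hrp ha) (rpart_le r x ha) hb

theorem isPGroup_rpart : IsPGroup r (rpart r x) := fun g =>
  ((S.mem_rpart hx hxZ hr hrp).1 g.2).2.imp fun _ h => Subtype.ext h

theorem card_rpart : Nat.card (rpart r x) = pp r (cent x) := by
  haveI := Fact.mk hr
  refine le_antisymm (card_le_pp (rpart_le r x) (S.isPGroup_rpart hx hxZ hr hrp)) ?_
  obtain ⟨W, hW, hWr, hWc⟩ := exists_pp_subgroup r (cent x)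
  exact hWc ▸ card_le_of_le fun g hg => mem_rpart_of (hW hg) (isPEl_of_mem hWr hg)

theorem conj_mem_rpart {g a : G} (hg : g ∈ normalizer (cent x : Set G)) (ha : a ∈ rpart r x) :
    g * a * g⁻¹ ∈ rpart r x :=
  mem_rpart_of ((mem_normalizer_iff.1 hg a).1 (rpart_le r x ha))
    (((S.mem_rpart hx hxZ hr hrp).1 ha).2.conj g)

theorem normalizer_le_rpart : normalizer (cent x : Set G) ≤ normalizer (rpart r x : Set G) :=
  mem_normalizer_of_conj fun _ hg _ ha => S.conj_mem_rpart hx hxZ hr hrp hg ha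

omit hr hrp in
/-- Normalising an `r`-part with a noncentral element means normalising the centraliser. -/
theorem mem_normalizer_of_rpart {a : G} (hr : r.Prime) (hrp : r ≠ p) (ha : a ∈ rpart r x)
    (haZ : a ∉ center G) {g : G} (hg : g ∈ normalizer (rpart r x : Set G)) :
    g ∈ normalizer (cent x : Set G) :=
  S.mem_normalizer hx hxZ (S.reg_of_rpart hx hxZ hr hrp ha) haZ (rpart_le r x ha)
    (rpart_le r x ((mem_normalizer_iff.1 hg a).1 ha))

theorem exists_notMem_rpart {e : G} (he : IsPEl r e) (heZ : e ∉ center G) :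
    ∃ a ∈ rpart r x, a ∉ center G := by
  obtain ⟨z, hz, hzr, hzZ⟩ := S.exists_mem_cent hr hrp he heZ hx hxZ
  exact ⟨z, mem_rpart_of hz hzr, hzZ⟩

end Hyp

end Cfsg.Agent.ClassSize.RegTwo
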