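import Cfsg.Agent.Lib.ClassSize.RegTwo.Frame

/-!
# Two class sizes of `p`-regular elements: frames exist at every centraliser
-/

set_option autoImplicit false
set_option linter.style.haveILetI false
set_option linter.unusedSectionVars false

namespace Cfsg.Agent.ClassSize.RegTwo

open Subgroup
open Cfsg.Agent.ClassSize.CoprimeTop (cent cl mem_cent cent_comm self_mem_cent center_le_cent)
open Cfsg.Agent.ClassSize.TwoSteps (IsPEl pp conj_notMem_center isPEl_of_mem mem_normalizer_of_conj)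

variable {G : Type*} [Group G] [Finite G] {p m s : ℕ}

namespace Hyp

variable (S : Hyp G p m) [Fact s.Prime] (hsp : s ≠ p) (hsm : s ∣ m)

include S hsp hsm

theorem exists_frame_at (P : Sylow s G) : ∃ F : Frame G p m s, F.syl = P := by
  obtain ⟨r, hr, hrp, -, e, he, heZ⟩ := S.other s
  have her := reg_of_isPEl S.hp hr hrp he
  have hne : ¬ (⊤ : Subgroup (P : Subgroup G)) ≤ (center G).subgroupOf P := fun h =>
    S.sylow_not_le_cent hsm P her heZ fun g hg =>
      center_le_cent e (mem_subgroupOf.1 (h (mem_top (⟨g, hg⟩ : (P : Subgroup G)))))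
  obtain ⟨u, -, hu, hus, hc⟩ := exists_central_mod P.2 _ _ hne
  have huZ : (u : G) ∉ center G := fun h => hu (mem_subgroupOf.2 h)
  obtain ⟨y, hy, hy'⟩ := SetLike.not_le_iff_exists.1 (S.sylow_not_le_cent hsm P
    (S.reg_of_mem_sylow Fact.out hsp u.2) huZ)
  exact ⟨{ hyp := S, sp := Fact.out, sne := hsp, syl := P, x := u, y := y, hxS := u.2, hxZ := huZ,
           hxs := by simpa using mem_subgroupOf.1 hus,
           hcen := fun g hg => by simpa using mem_subgroupOf.1 (hc ⟨g, hg⟩),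
           hyS := hy, hy := hy' }, rfl⟩

theorem card_sylow (P : Sylow s G) {w : G} (hw : Reg p w) (hwZ : w ∉ center G) :
    Nat.card (P : Subgroup G) = s * Nat.card (rpart s w) := by
  obtain ⟨F, rfl⟩ := S.exists_frame_at hsp hsm P
  rw [S.card_rpart hw hwZ Fact.out hsp, S.pp_cent_eq hw hwZ F.hxr F.hxZ]
  exact F.card_syl

theorem index_rpart (P : Sylow s G) {w : G} (hw : Reg p w) (hwZ : w ∉ center G)
    (hle : rpart s w ≤ (P : Subgroup G)) :
    ((rpart s w).subgroupOf (P : Subgroup G)).index = s := by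
  have h1 := card_mul_index ((rpart s w).subgroupOf (P : Subgroup G))
  rw [Nat.card_congr (subgroupOfEquivOfLe hle).toEquiv, S.card_sylow hsp hsm P hw hwZ, mul_comm s] at h1
  exact Nat.eq_of_mul_eq_mul_left Nat.card_pos h1

theorem normal_rpart (P : Sylow s G) {w : G} (hw : Reg p w) (hwZ : w ∉ center G)
    (hle : rpart s w ≤ (P : Subgroup G)) :
    ((rpart s w).subgroupOf (P : Subgroup G)).Normal := by
  set C := (rpart s w).subgroupOf (P : Subgroup G) with hC
  have hidx := S.index_rpart hsp hsm P hw hwZ hle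
  have hlt : C < normalizer (C : Set (P : Subgroup G)) := PGroup.lt_normalizer P.2 (
      fun h => (Fact.out (p := s.Prime)).ne_one (hidx.symm.trans (index_eq_one.2 h)))
  refine normalizer_eq_top_iff.1 (index_eq_one.1 ?_)
  rcases (Nat.dvd_prime Fact.out).1 (hidx ▸ index_dvd_of_le hlt.le) with h | h
  · exact h
  · have h1 := card_mul_index C
    have h2 := card_mul_index (normalizer (C : Set (P : Subgroup G)))
    rw [hidx] at h1
    rw [h, ← h1] at h2
    have h3 := Nat.eq_of_mul_eq_mul_right (Fact.out (p := s.Prime)).pos h2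
    exact absurd (eq_of_le_of_card_ge hlt.le h3.le) hlt.ne

theorem sylow_le_normalizer (P : Sylow s G) {w : G} (hw : Reg p w) (hwZ : w ∉ center G)
    (hle : rpart s w ≤ (P : Subgroup G)) : (P : Subgroup G) ≤ normalizer (cent w : Set G) := by
  intro g hg
  obtain ⟨e, he, heZ⟩ := S.exists_isPEl_notMem_center hsm
  obtain ⟨a, ha, haZ⟩ := S.exists_notMem_rpart hw hwZ Fact.out hsp he heZ
  have hn := S.normal_rpart hsp hsm P hw hwZ hle
  refine S.mem_normalizer hw hwZ (S.reg_of_rpart hw hwZ Fact.out hsp ha) haZ (rpart_le s w ha)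
    (rpart_le s w (mem_subgroupOf.1 (hn.conj_mem ⟨a, hle ha⟩ (mem_subgroupOf.2 ha) ⟨g, hg⟩) :))

theorem exists_zpow_mul_mem (P : Sylow s G) {w : G} (hw : Reg p w) (hwZ : w ∉ center G)
    (hle : rpart s w ≤ (P : Subgroup G)) {a g : G} (ha : a ∈ (P : Subgroup G)) (hac : a ∉ cent w)
    (hg : g ∈ (P : Subgroup G)) : ∃ i : ℤ, a ^ i * g ∈ rpart s w := by
  haveI := S.normal_rpart hsp hsm P hw hwZ hle
  set C := (rpart s w).subgroupOf (P : Subgroup G) with hC
  have hq : Nat.card ((P : Subgroup G) ⧸ C) = s := S.index_rpart hsp hsm P hw hwZ hle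
  have hne : QuotientGroup.mk' C ⟨a, ha⟩ ≠ 1 := fun h =>
    hac (rpart_le s w (mem_subgroupOf.1 ((QuotientGroup.eq_one_iff _).1 h) :))
  obtain ⟨i, hi⟩ := mem_zpowers_iff.1
    (mem_zpowers_of_prime_card hq (g' := QuotientGroup.mk' C ⟨g, hg⟩) hne)
  refine ⟨-i, ?_⟩
  have h1 : QuotientGroup.mk' C ((⟨a, ha⟩ : (P : Subgroup G)) ^ (-i) * ⟨g, hg⟩) = 1 := by
    rw [map_mul, map_zpow, zpow_neg, hi, inv_mul_cancel]
  simpa using mem_subgroupOf.1 ((QuotientGroup.eq_one_iff _).1 h1)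

/-- There is a frame at every centraliser. -/
theorem exists_frame {w : G} (hw : Reg p w) (hwZ : w ∉ center G) :
    ∃ F : Frame G p m s, cent F.x = cent w ∧ F.x ∈ rpart s w := by
  obtain ⟨P, hle⟩ := (S.isPGroup_rpart hw hwZ Fact.out hsp).exists_le_sylow
  obtain ⟨e, he, heZ⟩ := S.exists_isPEl_notMem_center hsm
  obtain ⟨a, ha, haZ⟩ := S.exists_notMem_rpart hw hwZ Fact.out hsp he heZ
  haveI := S.normal_rpart hsp hsm P hw hwZ hle
  have hne : ¬ (rpart s w).subgroupOf (P : Subgroup G) ≤ (center G).subgroupOf P := fun h =>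
    haZ (mem_subgroupOf.1 (h (show (⟨a, hle ha⟩ : (P : Subgroup G)) ∈ _ from mem_subgroupOf.2 ha)) :)
  obtain ⟨u, huw, hu, hus, hc⟩ := exists_central_mod P.2 _ _ hne
  have huw' : (u : G) ∈ rpart s w := mem_subgroupOf.1 huw
  have huZ : (u : G) ∉ center G := fun h => hu (mem_subgroupOf.2 h)
  have hur := S.reg_of_mem_sylow Fact.out hsp u.2
  obtain ⟨y, hy, hy'⟩ := SetLike.not_le_iff_exists.1 (S.sylow_not_le_cent hsm P hur huZ)
  exact ⟨{ hyp := S, sp := Fact.out, sne := hsp, syl := P, x := u, y := y, hxS := u.2, hxZ := huZ,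
           hxs := by simpa using mem_subgroupOf.1 hus,
           hcen := fun g hg => by simpa using mem_subgroupOf.1 (hc ⟨g, hg⟩),
           hyS := hy, hy := hy' },
    S.cent_eq_of_mem hw hwZ hur huZ (rpart_le s w huw'), huw'⟩

end Hyp

namespace Frame

variable (F : Frame G p m s) (hsm : s ∣ m)

theorem zpow_mem_rpart (i : ℤ) : F.x ^ i ∈ rpart s F.x :=
  zpow_mem (F.mem_rpart_of_mem F.hxS (self_mem_cent _)) i

theorem x_notMem_cent_y : F.x ∉ cent F.y := fun h => F.hy (cent_comm.1 h)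

include hsm

/-- The roles of `x` and `y` can be exchanged. -/
theorem exists_swap : ∃ F' : Frame G p m s, F'.x = F.y ∧ F'.y = F.x := by
  haveI := Fact.mk F.sp
  have hxy := qz_comm_iff.1 (F.hcen F.y F.hyS)
  have hxn : zpowers F.x ≤ normalizer (rpart s F.y : Set G) := zpowers_le.2
    (F.hyp.normalizer_le_rpart F.hyr F.hyZ F.sp F.sne (F.hyp.mem_normalizer F.hyr F.hyZ F.hyr F.hyZ
      (self_mem_cent _) (conj_mem_cent_of_comm (qz_comm_iff.2 hxy.symm))))
  obtain ⟨P, hP⟩ := (IsPGroup.to_sup_of_normal_right'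
    ((isPEl_of_mem F.syl.2 F.hxS).isPGroup_zpowers)
    (F.hyp.isPGroup_rpart F.hyr F.hyZ F.sp F.sne) hxn).exists_le_sylow
  have hxP : F.x ∈ (P : Subgroup G) := hP (mem_sup_left (mem_zpowers _))
  have hle : rpart s F.y ≤ (P : Subgroup G) := le_sup_right.trans hP
  refine ⟨{ hyp := F.hyp, sp := F.sp, sne := F.sne, syl := P, x := F.y, y := F.x,
            hxS := hle (mem_rpart_of (self_mem_cent _) (isPEl_of_mem F.syl.2 F.hyS)),
            hxZ := F.hyZ, hxs := F.hys, hcen := ?_, hyS := hxP, hy := F.x_notMem_cent_y },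
    rfl, rfl⟩
  intro g hg
  obtain ⟨i, hi⟩ := F.hyp.exists_zpow_mul_mem F.sne hsm P F.hyr F.hyZ hle hxP F.x_notMem_cent_y hg
  refine qz_comm_iff.2 ?_
  have h1 : Commute (qz G (F.x ^ i * g)) (qz G F.y) := by
    have : Commute (F.x ^ i * g) F.y :=
      F.hyp.rpart_comm F.hyr F.hyZ F.sp F.sne hi (self_mem_cent F.y)
    exact this.map _
  rw [map_mul, map_zpow] at h1
  have h2 := ((show Commute (qz G F.x) (qz G F.y) from hxy.symm).zpow_left i).inv_left.mul_left h1
  rwa [inv_mul_cancel_left] at h2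

/-- Elements of `C(x)` commuting with `y` modulo the centre are powers of `x` modulo the centre. -/
theorem one_dim {u : G} (hu : u ∈ rpart s F.x) (h : u * F.y * u⁻¹ * F.y⁻¹ ∈ center G) :
    ∃ i : ℤ, qz G u = qz G F.x ^ i := by
  haveI := Fact.mk F.sp
  set E : Subgroup G := (F.syl : Subgroup G) ⊓ (centralizer {qz G F.y}).comap (qz G) with hE
  have hmem : ∀ g : G, g ∈ (F.syl : Subgroup G) → qz G g * qz G F.y = qz G F.y * qz G g → g ∈ E :=
    fun g hg hc => mem_inf.2 ⟨hg, mem_comap.2 (mem_centralizer_singleton_iff.2 hc)⟩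
  have hEn : E ≤ normalizer (rpart s F.y : Set G) := fun g hg =>
    F.hyp.normalizer_le_rpart F.hyr F.hyZ F.sp F.sne (F.hyp.mem_normalizer F.hyr F.hyZ F.hyr F.hyZ
      (self_mem_cent _) (conj_mem_cent_of_comm (qz_comm_iff.2
        (mem_centralizer_singleton_iff.1 (mem_comap.1 (mem_inf.1 hg).2)))))
  obtain ⟨P, hP⟩ := (IsPGroup.to_sup_of_normal_right' (F.syl.2.to_le inf_le_left)
    (F.hyp.isPGroup_rpart F.hyr F.hyZ F.sp F.sne) hEn).exists_le_sylow
  have hx : F.x ∈ (P : Subgroup G) :=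
    hP (mem_sup_left (hmem _ F.hxS (qz_comm_iff.1 (F.hcen F.y F.hyS)).symm))
  have hu' : u ∈ (P : Subgroup G) :=
    hP (mem_sup_left (hmem _ (F.rpart_le_syl hu) (qz_comm_iff.1 h)))
  obtain ⟨i, hi⟩ := F.hyp.exists_zpow_mul_mem F.sne hsm P F.hyr F.hyZ (le_sup_right.trans hP) hx
    F.x_notMem_cent_y hu'
  refine ⟨-i, ?_⟩
  have hZ : F.x ^ i * u ∈ center G := by
    by_contra hZ
    have hr := F.hyp.reg_of_rpart F.hyr F.hyZ F.sp F.sne hi
    have hx' : F.x ^ i * u ∈ cent F.x := rpart_le s _ (mul_mem (F.zpow_mem_rpart i) hu)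
    have e := (F.hyp.cent_eq_of_mem F.hxr F.hxZ hr hZ hx').symm.trans
      (F.hyp.cent_eq_of_mem F.hyr F.hyZ hr hZ (rpart_le s _ hi))
    exact F.hy (e ▸ self_mem_cent F.y)
  rw [zpow_neg, eq_inv_iff_mul_eq_one, ← map_zpow, ← map_mul]
  refine qz_eq_one.2 ?_
  have := (inferInstance : (center G).Normal).conj_mem _ hZ u
  simpa [mul_assoc] using this

end Frame

end Cfsg.Agent.ClassSize.RegTwo
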