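import Cfsg.Agent.Lib.ClassSize.RegTwo.Basic
import Cfsg.Agent.Lib.ClassSize.RegTwo.Algebra
import Cfsg.Agent.Lib.PGroup.Basic

/-!
# Two class sizes of `p`-regular elements: a prime `s ≠ p` dividing the class size

A Sylow `s`-subgroup `S` has an element `x` central modulo `Z(G)`; it normalises `C(x)`,
meets it in a subgroup of index `s` and all elements outside have order `s` modulo `Z(G)`.
-/

set_option autoImplicit false
set_option linter.style.haveILetI false
set_option linter.unusedSectionVars false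

namespace Cfsg.Agent.ClassSize.RegTwo

open Subgroup
open scoped IsMulCommutative
open Cfsg.Agent.ClassSize.CoprimeTop (cent cl mem_cent cent_comm self_mem_cent center_le_cent)
open Cfsg.Agent.ClassSize.TwoSteps (IsPEl pp conj_notMem_center isPEl_of_mem card_le_pp)

variable {G : Type*} [Group G] [Finite G] {p m s : ℕ}

/-- The quotient map modulo the centre. -/
abbrev qz (G : Type*) [Group G] : G →* G ⧸ center G := QuotientGroup.mk' (center G)

theorem qz_eq_one {g : G} : qz G g = 1 ↔ g ∈ center G := QuotientGroup.eq_one_iff g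

theorem qz_comm_iff {g x : G} :
    g * x * g⁻¹ * x⁻¹ ∈ center G ↔ qz G g * qz G x = qz G x * qz G g := by
  rw [← qz_eq_one, map_mul, map_mul, map_mul, map_inv, map_inv, mul_inv_eq_one,
    mul_inv_eq_iff_eq_mul]

theorem conj_mem_cent_of_comm {g x : G} (h : g * x * g⁻¹ * x⁻¹ ∈ center G) :
    g * x * g⁻¹ ∈ cent x := by
  have := mul_mem (center_le_cent x h) (self_mem_cent x)
  rwa [inv_mul_cancel_right] at this

/-- In a `q`-group a normal subgroup outside `D` has an element central modulo `D`. -/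
theorem exists_central_mod {P : Type*} [Group P] [Finite P] [Fact s.Prime] (hP : IsPGroup s P)
    (D N : Subgroup P) [D.Normal] [N.Normal] (h : ¬ N ≤ D) :
    ∃ u ∈ N, u ∉ D ∧ u ^ s ∈ D ∧ ∀ g : P, g * u * g⁻¹ * u⁻¹ ∈ D := by
  haveI : (N.map (QuotientGroup.mk' D)).Normal :=
    ‹N.Normal›.map _ (QuotientGroup.mk'_surjective D)
  have hne : N.map (QuotientGroup.mk' D) ≠ ⊥ := by
    rwa [Ne, Subgroup.map_eq_bot_iff, QuotientGroup.ker_mk']
  obtain ⟨_, ⟨u, hu, rfl⟩, hc, ho⟩ :=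
    PGroup.exists_orderOf_eq_mem_center (hP.to_quotient D) _ hne
  refine ⟨u, hu, fun hD => ?_, ?_, fun g => ?_⟩
  · rw [QuotientGroup.mk'_apply, (QuotientGroup.eq_one_iff u).2 hD, orderOf_one] at ho
    exact (Fact.out (p := s.Prime)).ne_one ho.symm
  · rw [← QuotientGroup.eq_one_iff, QuotientGroup.mk_pow]
    exact orderOf_dvd_iff_pow_eq_one.1 (dvd_of_eq ho)
  · rw [← QuotientGroup.eq_one_iff, QuotientGroup.mk_mul, QuotientGroup.mk_mul,
      QuotientGroup.mk_mul, QuotientGroup.mk_inv, QuotientGroup.mk_inv]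
    show QuotientGroup.mk' D g * _ * _ * _ = 1
    rw [show QuotientGroup.mk' D g * (u : P ⧸ D) = (u : P ⧸ D) * QuotientGroup.mk' D g from
      mem_center_iff.1 hc _]
    simp

namespace Hyp

theorem reg_of_mem_sylow (S : Hyp G p m) (hs : s.Prime) (hsp : s ≠ p) {P : Sylow s G} {g : G}
    (hg : g ∈ (P : Subgroup G)) : Reg p g :=
  reg_of_isPEl S.hp hs hsp (isPEl_of_mem P.2 hg)

theorem sylow_not_le_cent (S : Hyp G p m) [Fact s.Prime] (hsm : s ∣ m) (P : Sylow s G) {w : G}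
    (hw : Reg p w) (hwZ : w ∉ center G) : ¬ (P : Subgroup G) ≤ cent w := fun h =>
  P.not_dvd_index (((S.cl_eq w hw hwZ).symm ▸ hsm : s ∣ cl w).trans (index_dvd_of_le h))

theorem exists_isPEl_notMem_center (S : Hyp G p m) [Fact s.Prime] (hsm : s ∣ m) :
    ∃ e : G, IsPEl s e ∧ e ∉ center G := by
  obtain ⟨r, hr, hrp, -, e, he, heZ⟩ := S.other s
  obtain ⟨P⟩ : Nonempty (Sylow s G) := inferInstance
  obtain ⟨g, hg, hgZ⟩ := SetLike.not_le_iff_exists.1 (fun h =>
    S.sylow_not_le_cent hsm P (reg_of_isPEl S.hp hr hrp he) heZ (h.trans (center_le_cent e)))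
  exact ⟨g, isPEl_of_mem P.2 hg, hgZ⟩

end Hyp

/-- A Sylow `s`-subgroup with an element `x` central modulo `Z(G)` and an element `y` outside
`C(x)`. -/
structure Frame (G : Type*) [Group G] (p m s : ℕ) where
  hyp : Hyp G p m
  sp : s.Prime
  sne : s ≠ p
  syl : Sylow s G
  x : G
  y : G
  hxS : x ∈ (syl : Subgroup G)
  hxZ : x ∉ center G
  hxs : x ^ s ∈ center G
  hcen : ∀ g ∈ (syl : Subgroup G), g * x * g⁻¹ * x⁻¹ ∈ center G
  hyS : y ∈ (syl : Subgroup G)
  hy : y ∉ cent x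

namespace Frame

variable (F : Frame G p m s)

theorem hxr : Reg p F.x := F.hyp.reg_of_mem_sylow F.sp F.sne F.hxS

theorem hyr : Reg p F.y := F.hyp.reg_of_mem_sylow F.sp F.sne F.hyS

theorem hyZ : F.y ∉ center G := fun h => F.hy (center_le_cent _ h)

theorem le_normalizer : (F.syl : Subgroup G) ≤ normalizer (cent F.x : Set G) := fun g hg =>
  F.hyp.mem_normalizer F.hxr F.hxZ F.hxr F.hxZ (self_mem_cent _)
    (conj_mem_cent_of_comm (F.hcen g hg))

theorem rpart_le_syl : rpart s F.x ≤ (F.syl : Subgroup G) := by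
  haveI := Fact.mk F.sp
  have h := IsPGroup.to_sup_of_normal_right' F.syl.2
    (F.hyp.isPGroup_rpart F.hxr F.hxZ F.sp F.sne)
    (F.le_normalizer.trans (F.hyp.normalizer_le_rpart F.hxr F.hxZ F.sp F.sne))
  exact (le_sup_right (a := (F.syl : Subgroup G))).trans (F.syl.3 h le_sup_left).le

theorem mem_rpart_of_mem {g : G} (hg : g ∈ (F.syl : Subgroup G)) (hc : g ∈ cent F.x) :
    g ∈ rpart s F.x := mem_rpart_of hc (isPEl_of_mem F.syl.2 hg)

theorem qz_x_ne_one : qz G F.x ≠ 1 := fun h => F.hxZ (qz_eq_one.1 h)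

theorem qz_x_pow : qz G F.x ^ s = 1 := by rw [← map_pow]; exact qz_eq_one.2 F.hxs

theorem orderOf_qz_x : orderOf (qz G F.x) = s := by
  haveI := Fact.mk F.sp
  exact orderOf_eq_prime F.qz_x_pow F.qz_x_ne_one

/-- Elements outside `C(x)` have order `s` modulo `Z(G)`. -/
theorem pow_mem_center {g : G} (hg : g ∈ (F.syl : Subgroup G)) (hgx : g ∉ cent F.x) :
    g ^ s ∈ center G := by
  by_contra hZ
  have hr := F.hyp.reg_of_mem_sylow F.sp F.sne (pow_mem hg s)
  have h1 : g ^ s ∈ cent F.x := by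
    have hc : qz G ((g * F.x) ^ s) = qz G (g ^ s) := by
      rw [map_pow, map_mul, (show Commute (qz G g) (qz G F.x) from
        qz_comm_iff.1 (F.hcen g hg)).mul_pow, F.qz_x_pow, mul_one, map_pow]
    obtain ⟨z, hz, he⟩ : ∃ z ∈ center G, g ^ s * z = (g * F.x) ^ s :=
      ⟨(g ^ s)⁻¹ * (g * F.x) ^ s, QuotientGroup.eq.1 hc.symm, mul_inv_cancel_left _ _⟩
    have h2 : Commute (g * F.x) (g ^ s) := by
      have h3 : Commute (g * F.x) (g ^ s * z * z⁻¹) := by
        rw [he]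
        exact ((Commute.refl _).pow_right s).mul_right
          (show Commute (g * F.x) z⁻¹ from mem_center_iff.1 (inv_mem hz) _)
      rwa [mul_inv_cancel_right] at h3
    have h4 : Commute F.x (g ^ s) := by
      have := ((Commute.refl g).pow_right s).inv_left.mul_left h2
      rwa [inv_mul_cancel_left] at this
    exact mem_cent.2 h4
  have h5 : g ∈ cent (g ^ s) := mem_cent.2 ((Commute.refl g).pow_left s).eq
  rw [F.hyp.cent_eq_of_mem F.hxr F.hxZ hr hZ h1] at h5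
  exact hgx h5

theorem hys : F.y ^ s ∈ center G := F.pow_mem_center F.hyS F.hy

theorem orderOf_qz_y : orderOf (qz G F.y) = s := by
  haveI := Fact.mk F.sp
  exact orderOf_eq_prime (by rw [← map_pow]; exact qz_eq_one.2 F.hys)
    fun h => F.hyZ (qz_eq_one.1 h)

/-- An element outside `C(x)` fixes nothing in the image of another part. -/
theorem fix_eq_one {l : ℕ} (hl : l.Prime) (hlp : l ≠ p) (hls : l ≠ s) {g : G}
    (hg : g ∈ (F.syl : Subgroup G)) (hgx : g ∉ cent F.x) {u : G} (hu : u ∈ rpart l F.x)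
    (h : g * u * g⁻¹ * u⁻¹ ∈ center G) : u ∈ center G := by
  by_contra huZ
  have hu' := (F.hyp.mem_rpart F.hxr F.hxZ hl hlp).1 hu
  have hur := reg_of_isPEl F.hyp.hp hl hlp hu'.2
  have hc := commute_of_commutator_mem_center
    ((isPEl_of_mem F.syl.2 hg).coprime F.sp hl (Ne.symm hls) hu'.2) h
  refine hgx ?_
  rw [← F.hyp.cent_eq_of_mem F.hxr F.hxZ hur huZ hu'.1]
  exact mem_cent.2 hc.symm

end Frame

/-- The elements of order `r` in the image of the `r`-part modulo the centre. -/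
def omegaImg (r : ℕ) (x : G) : Subgroup (G ⧸ center G) :=
  closure {v | v ∈ (rpart r x).map (qz G) ∧ v ^ r = 1}

section OmegaImg

variable {r : ℕ} {x : G} (S : Hyp G p m) (hx : Reg p x) (hxZ : x ∉ center G) (hr : r.Prime)
  (hrp : r ≠ p)

include S hx hxZ hr hrp

theorem img_comm {a b : G ⧸ center G} (ha : a ∈ (rpart r x).map (qz G))
    (hb : b ∈ (rpart r x).map (qz G)) : a * b = b * a := by
  obtain ⟨a, ha, rfl⟩ := ha
  obtain ⟨b, hb, rfl⟩ := hb
  rw [← map_mul, ← map_mul, S.rpart_comm hx hxZ hr hrp ha (rpart_le r x hb)]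

theorem mem_omegaImg {v : G ⧸ center G} :
    v ∈ omegaImg r x ↔ v ∈ (rpart r x).map (qz G) ∧ v ^ r = 1 := by
  refine ⟨fun h => ?_, fun h => subset_closure h⟩
  induction h using closure_induction with
  | mem g hg => exact hg
  | one => exact ⟨one_mem _, one_pow r⟩
  | mul a b _ _ ha hb =>
    exact ⟨mul_mem ha.1 hb.1, by
      rw [(show Commute a b from img_comm S hx hxZ hr hrp ha.1 hb.1).mul_pow, ha.2, hb.2, one_mul]⟩
  | inv a _ ha => exact ⟨inv_mem ha.1, by rw [inv_pow, ha.2, inv_one]⟩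

theorem isMulCommutative_omegaImg : IsMulCommutative (omegaImg r x) :=
  ⟨⟨fun a b => Subtype.ext (img_comm S hx hxZ hr hrp
    ((mem_omegaImg S hx hxZ hr hrp).1 a.2).1 ((mem_omegaImg S hx hxZ hr hrp).1 b.2).1)⟩⟩

theorem qz_mem_normalizer {g : G} (hg : g ∈ normalizer (cent x : Set G)) :
    qz G g ∈ normalizer (omegaImg r x : Set (G ⧸ center G)) := by
  have hc : ∀ h ∈ normalizer (cent x : Set G), ∀ v ∈ omegaImg r x,
      qz G h * v * (qz G h)⁻¹ ∈ omegaImg r x := by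
    intro h hh v hv
    obtain ⟨⟨u, hu, rfl⟩, hvr⟩ := (mem_omegaImg S hx hxZ hr hrp).1 hv
    refine (mem_omegaImg S hx hxZ hr hrp).2 ⟨⟨h * u * h⁻¹, S.conj_mem_rpart hx hxZ hr hrp hh hu, by
      rw [map_mul, map_mul, map_inv]⟩, ?_⟩
    rw [conj_pow, hvr, mul_one, mul_inv_cancel]
  refine mem_normalizer_iff.2 fun v => ⟨hc g hg v, fun h => ?_⟩
  have := hc g⁻¹ (inv_mem hg) _ h
  simpa [mul_assoc] using this

theorem exists_ne_one {e : G} (he : IsPEl r e) (heZ : e ∉ center G) :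
    ∃ v ∈ omegaImg r x, v ≠ 1 := by
  haveI := Fact.mk hr
  obtain ⟨a, ha, haZ⟩ := S.exists_notMem_rpart hx hxZ hr hrp he heZ
  have hp : IsPGroup r ((rpart r x).map (qz G)) := (S.isPGroup_rpart hx hxZ hr hrp).map _
  obtain ⟨k, hk⟩ := IsPGroup.iff_card.1 hp
  have hne : (rpart r x).map (qz G) ≠ ⊥ := fun h =>
    haZ (qz_eq_one.1 ((Subgroup.eq_bot_iff_forall _).1 h _ (mem_map_of_mem _ ha)))
  have hd : r ∣ Nat.card ((rpart r x).map (qz G)) := by
    rw [hk]
    refine dvd_pow_self r ?_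
    rintro rfl
    exact hne (card_eq_one.1 (by simpa using hk))
  obtain ⟨v, hv⟩ := exists_prime_orderOf_dvd_card' r hd
  rw [← Subgroup.orderOf_coe] at hv
  refine ⟨v, (mem_omegaImg S hx hxZ hr hrp).2
    ⟨v.2, orderOf_dvd_iff_pow_eq_one.1 (dvd_of_eq hv)⟩, fun h1 => ?_⟩
  rw [h1, orderOf_one] at hv
  exact hr.ne_one hv.symm

end OmegaImg

namespace Frame

variable (F : Frame G p m s)

/-- Conjugation on the elements of order `l` of another part. -/
theorem norm_act {l : ℕ} (hl : l.Prime) (hlp : l ≠ p) (hls : l ≠ s)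
    [IsMulCommutative (omegaImg l F.x)] {g : G} (hg : g ∈ (F.syl : Subgroup G))
    (hgx : g ∉ cent F.x) :
    ∑ i ∈ Finset.range s, conjEnd (omegaImg l F.x)
      ⟨qz G g, qz_mem_normalizer F.hyp F.hxr F.hxZ hl hlp (F.le_normalizer hg)⟩ ^ i = 0 := by
  refine norm_eq_zero (omegaImg l F.x) (s := s) ?_ fun v hv h => ?_
  · show qz G g ^ s = 1
    rw [← map_pow]
    exact qz_eq_one.2 (F.pow_mem_center hg hgx)
  · obtain ⟨⟨u, hu, rfl⟩, -⟩ := (mem_omegaImg F.hyp F.hxr F.hxZ hl hlp).1 hv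
    refine qz_eq_one.2 (F.fix_eq_one hl hlp hls hg hgx hu (qz_comm_iff.2 ?_))
    exact mul_inv_eq_iff_eq_mul.1 h

/-- The index of `C(x)` in the Sylow subgroup is `s`. -/
theorem exists_pow_mul_mem {g : G} (hg : g ∈ (F.syl : Subgroup G)) :
    ∃ i : Fin s, F.y ^ (i : ℕ) * g ∈ cent F.x := by
  by_contra h
  push Not at h
  obtain ⟨l, hl, hlp, hls, e, he, heZ⟩ := F.hyp.other s
  haveI := isMulCommutative_omegaImg F.hyp F.hxr F.hxZ hl hlp
  haveI := Fact.mk F.sp
  let n : ↥(F.syl : Subgroup G) → normalizer (omegaImg l F.x : Set (G ⧸ center G)) := fun a =>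
    ⟨qz G a, qz_mem_normalizer F.hyp F.hxr F.hxZ hl hlp (F.le_normalizer a.2)⟩
  have hn : ∀ a b, n (a * b) = n a * n b := fun a b => Subtype.ext (map_mul (qz G) _ _)
  let ρ : (F.syl : Subgroup G) →* AddMonoid.End (Additive (omegaImg l F.x)) :=
    (conjEnd (omegaImg l F.x)).comp (MonoidHom.mk' n hn)
  have hN : ∀ a : (F.syl : Subgroup G), (a : G) ∉ cent F.x →
      ∑ i ∈ Finset.range s, ρ a ^ i = 0 := fun a ha => F.norm_act hl hlp hls a.2 ha
  have hab : Commute (ρ ⟨F.y, F.hyS⟩) (ρ ⟨g, hg⟩) := by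
    refine DFunLike.ext _ _ fun v => Additive.toMul.injective (Subtype.ext ?_)
    show qz G F.y * (qz G g * ((Additive.toMul v : omegaImg l F.x) : G ⧸ center G) * (qz G g)⁻¹) *
        (qz G F.y)⁻¹ = qz G g * (qz G F.y * _ * (qz G F.y)⁻¹) * (qz G g)⁻¹
    obtain ⟨⟨u, hu, hue⟩, -⟩ := (mem_omegaImg F.hyp F.hxr F.hxZ hl hlp).1 (Additive.toMul v).2
    rw [← hue]
    -- the commutator lies in `C(x)`, which centralises the part
    have hcx : (g * F.y)⁻¹ * (F.y * g) ∈ cent F.x := by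
      have hc : ∀ a ∈ (F.syl : Subgroup G), ∃ z : G, z ∈ center G ∧ a * F.x * a⁻¹ = z * F.x :=
        fun a ha => ⟨_, F.hcen a ha, by group⟩
      obtain ⟨z₁, hz₁, e₁⟩ := hc F.y F.hyS
      obtain ⟨z₂, hz₂, e₂⟩ := hc g hg
      have e3 : F.y * g * F.x * (F.y * g)⁻¹ = z₂ * z₁ * F.x := by
        calc F.y * g * F.x * (F.y * g)⁻¹ = F.y * (g * F.x * g⁻¹) * F.y⁻¹ := by group
          _ = F.y * z₂ * F.x * F.y⁻¹ := by rw [e₂]; group
          _ = z₂ * (F.y * F.x * F.y⁻¹) := by rw [mem_center_iff.1 hz₂ F.y]; group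
          _ = z₂ * z₁ * F.x := by rw [e₁, mul_assoc]
      have e4 : g * F.y * F.x * (g * F.y)⁻¹ = z₂ * z₁ * F.x := by
        calc g * F.y * F.x * (g * F.y)⁻¹ = g * (F.y * F.x * F.y⁻¹) * g⁻¹ := by group
          _ = g * z₁ * F.x * g⁻¹ := by rw [e₁]; group
          _ = z₁ * (g * F.x * g⁻¹) := by rw [mem_center_iff.1 hz₁ g]; group
          _ = z₂ * z₁ * F.x := by rw [e₂, ← mul_assoc, mem_center_iff.1 hz₂ z₁]
      refine mem_cent.2 ?_
      have e5 := e3.trans e4.symm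
      calc F.x * ((g * F.y)⁻¹ * (F.y * g))
          = (g * F.y)⁻¹ * (g * F.y * F.x * (g * F.y)⁻¹) * (F.y * g) := by group
        _ = (g * F.y)⁻¹ * (F.y * g) * F.x := by rw [← e5]; group
    have hcu : (g * F.y)⁻¹ * (F.y * g) * u * ((g * F.y)⁻¹ * (F.y * g))⁻¹ = u :=
      mul_inv_eq_iff_eq_mul.2 (F.hyp.rpart_comm F.hxr F.hxZ hl hlp hu hcx).symm
    simp only [← map_mul, ← map_inv]
    congr 1
    calc F.y * (g * u * g⁻¹) * F.y⁻¹
        = (g * F.y) * ((g * F.y)⁻¹ * (F.y * g) * u * ((g * F.y)⁻¹ * (F.y * g))⁻¹) *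
            (g * F.y)⁻¹ := by group
      _ = g * (F.y * u * F.y⁻¹) * g⁻¹ := by rw [hcu]; group
  have hpow : ∀ j, 0 < j → j < s → F.y ^ j ∉ cent F.x := fun j hj hjs hmem => by
    obtain ⟨i, hi⟩ := Nat.exists_mul_mod_eq_one_of_coprime
      ((F.sp.coprime_iff_not_dvd.2 fun hd => by
        have := Nat.le_of_dvd hj hd; omega).symm) F.sp.one_lt
    refine F.hy ?_
    have h1 : F.y ^ (j * i) ∈ cent F.x := by rw [pow_mul]; exact pow_mem hmem i
    rw [← Nat.div_add_mod (j * i) s, hi.2, pow_add, pow_mul, pow_one] at h1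
    exact (mul_mem_cancel_left (pow_mem (center_le_cent _ F.hys) _)).1 h1
  have h0 := natCast_eq_zero_of_norms (ρ ⟨F.y, F.hyS⟩) (ρ ⟨g, hg⟩) hab
    (fun j hj hjs => by rw [← map_pow]; exact hN _ (hpow j hj hjs))
    (fun i hi => by rw [← map_pow, ← map_mul]; exact hN _ (h ⟨i, hi⟩))
  obtain ⟨v, hv, hv1⟩ := exists_ne_one F.hyp F.hxr F.hxZ hl hlp he heZ
  have h1 : v ^ s = 1 := by
    have h2 := DFunLike.congr_fun h0 (Additive.ofMul (⟨v, hv⟩ : omegaImg l F.x))
    rw [show ((s : ℕ) : AddMonoid.End (Additive (omegaImg l F.x))) = s • 1 by simp] at h2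
    exact congrArg (fun a => ((Additive.toMul a : omegaImg l F.x) : G ⧸ center G)) h2
  have h2 := ((mem_omegaImg F.hyp F.hxr F.hxZ hl hlp).1 hv).2
  exact hv1 (orderOf_eq_one_iff.1 (Nat.eq_one_of_dvd_coprimes
    ((Nat.coprime_primes hl F.sp).2 hls) (orderOf_dvd_of_pow_eq_one h2)
    (orderOf_dvd_of_pow_eq_one h1)))

theorem card_syl : Nat.card (F.syl : Subgroup G) = s * pp s (cent F.x) := by
  haveI := Fact.mk F.sp
  rw [← F.hyp.card_rpart F.hxr F.hxZ F.sp F.sne]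
  have hle : Nat.card (F.syl : Subgroup G) ≤ s * Nat.card (rpart s F.x) := by
    choose i hi using fun g : (F.syl : Subgroup G) => F.exists_pow_mul_mem g.2
    refine (Nat.card_le_card_of_injective (β := Fin s × rpart s F.x)
      (fun g : (F.syl : Subgroup G) => (i g, (⟨F.y ^ (i g : ℕ) * g,
        F.mem_rpart_of_mem (mul_mem (pow_mem F.hyS _) g.2) (hi g)⟩ : rpart s F.x))) ?_).trans_eq
      (by rw [Nat.card_prod, Nat.card_fin])
    intro a b hab
    have h1 : i a = i b := congrArg Prod.fst hab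
    have h2 : F.y ^ (i a : ℕ) * (a : G) = F.y ^ (i b : ℕ) * b :=
      congrArg Subtype.val (congrArg Prod.snd hab :)
    rw [h1] at h2
    exact Subtype.ext (mul_left_cancel h2)
  obtain ⟨a, ha⟩ := IsPGroup.iff_card.1 F.syl.2
  obtain ⟨b, hb⟩ := IsPGroup.iff_card.1 (F.hyp.isPGroup_rpart F.hxr F.hxZ F.sp F.sne)
  have hlt : Nat.card (rpart s F.x) < Nat.card (F.syl : Subgroup G) :=
    lt_of_not_ge fun h => F.hy (rpart_le s F.x (eq_of_le_of_card_ge F.rpart_le_syl h ▸ F.hyS))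
  rw [ha, hb] at hlt hle ⊢
  have h3 := (Nat.pow_lt_pow_iff_right F.sp.one_lt).1 hlt
  rw [← pow_succ'] at hle ⊢
  exact le_antisymm hle (Nat.pow_le_pow_right F.sp.pos h3)

end Frame

end Cfsg.Agent.ClassSize.RegTwo
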