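import Cfsg.Agent.Lib.ClassSize.RegTwo.Build
import Cfsg.Agent.Lib.CharInt.Kazarin
import Cfsg.Agent.Lib.Solvable.Basic

/-!
# Two class sizes of `p`-regular elements: the class size is a power of `p`

If `s ≠ p` is the only such prime dividing the class size then all centralisers are conjugate;
Kazarin's theorem gives a normal subgroup whose Sylow subgroup forces them to be conjugate under a
subgroup without noncentral `p`-regular elements, and a frame contradicts this.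
-/

set_option autoImplicit false
set_option linter.style.haveILetI false
set_option linter.unusedSectionVars false

namespace Cfsg.Agent.ClassSize.RegTwo

open Subgroup
open Cfsg.Agent.ClassSize.CoprimeTop (cent cl mem_cent cent_comm self_mem_cent center_le_cent
  cent_conj_mem)
open Cfsg.Agent.ClassSize.TwoSteps (IsPEl pp conj_notMem_center isPEl_of_mem sylow_card pp_mul_cl)

universe u

variable {G : Type u} [Group G] [Finite G] {p m s r : ℕ}

theorem isSolvable_comap_qz (M : Subgroup (G ⧸ center G)) [Group.IsSolvable M] :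
    Group.IsSolvable (M.comap (qz G)) := by
  let f := (qz G).subgroupComap M
  haveI : Group.IsSolvable f.ker := Group.isSolvable_of_comm fun a b => by
    refine Subtype.ext (Subtype.ext ?_)
    have ha : ((a : M.comap (qz G)) : G) ∈ center G := qz_eq_one.1 (congrArg Subtype.val a.2)
    exact (mem_center_iff.1 ha _).symm
  exact Group.isSolvable_of_ker_le_range f.ker.subtype f (range_subtype f.ker).ge

/-- `N` has no noncentral `p`-regular element. -/
def RegCentral (p : ℕ) (N : Subgroup G) : Prop := ∀ g ∈ N, Reg p g → g ∈ center G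

namespace Hyp

/-- A Sylow `r`-subgroup is the `r`-part of a centraliser if `r ∤ m`. -/
theorem exists_rpart_eq_sylow (S : Hyp G p m) [Fact r.Prime] (hrp : r ≠ p) (hrm : ¬ r ∣ m) {x : G}
    (hx : Reg p x) (hxZ : x ∉ center G) : ∃ Q : Sylow r G, (Q : Subgroup G) = rpart r x := by
  refine ⟨Sylow.ofCard (rpart r x) ?_, rfl⟩
  rw [S.card_rpart hx hxZ Fact.out hrp, ← pp_mul_cl x, S.cl_eq x hx hxZ,
    Nat.factorization_eq_zero_of_not_dvd hrm, pow_zero, mul_one]

/-- The centralisers are conjugate. -/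
theorem exists_conj_cent (S : Hyp G p m) [Fact r.Prime] (hrp : r ≠ p) (hrm : ¬ r ∣ m) {e : G}
    (he : IsPEl r e) (heZ : e ∉ center G) {x y : G} (hx : Reg p x) (hxZ : x ∉ center G)
    (hy : Reg p y) (hyZ : y ∉ center G) :
    ∃ g : G, ∀ v, v ∈ cent y ↔ g⁻¹ * v * g ∈ cent x := by
  obtain ⟨Q, hQ⟩ := S.exists_rpart_eq_sylow hrp hrm hx hxZ
  obtain ⟨Q', hQ'⟩ := S.exists_rpart_eq_sylow hrp hrm hy hyZ
  obtain ⟨g, hg⟩ := MulAction.exists_smul_eq G Q Q'
  obtain ⟨a, ha, haZ⟩ := S.exists_notMem_rpart hx hxZ Fact.out hrp he heZ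
  have har := S.reg_of_rpart hx hxZ Fact.out hrp ha
  have hmem : g * a * g⁻¹ ∈ rpart r y := by
    rw [← hQ', ← hg, Sylow.coe_subgroup_smul, mem_pointwise_smul_iff_inv_smul_mem, hQ]
    simpa [MulAut.smul_def, mul_assoc] using ha
  refine ⟨g, fun v => ?_⟩
  rw [← S.cent_eq_of_mem hy hyZ (har.conj g) (conj_notMem_center haZ g) (rpart_le r y hmem),
    cent_conj_mem, S.cent_eq_of_mem hx hxZ har haZ (rpart_le r x ha)]

theorem false_of_single (S : Hyp G p m) [hsF : Fact s.Prime] (hsp : s ≠ p) (hsm : s ∣ m)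
    (huniq : ∀ r : ℕ, r.Prime → r ≠ p → r ∣ m → r = s) : False := by
  classical
  have hs := hsF.out
  obtain ⟨q, hq, hqp, hqs, e, he, heZ⟩ := S.other s
  haveI := Fact.mk hq
  have hqm : ¬ q ∣ m := fun h => hqs (huniq q hq hqp h)
  obtain ⟨P₀⟩ : Nonempty (Sylow s G) := inferInstance
  obtain ⟨F, -⟩ := S.exists_frame_at hsp hsm P₀
  -- Kazarin
  set K : Subgroup (G ⧸ center G) := centralizer {qz G F.x} with hK
  have hSK : (F.syl : Subgroup G) ≤ K.comap (qz G) := fun g hg =>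
    mem_comap.2 (mem_centralizer_singleton_iff.2 (qz_comm_iff.1 (F.hcen g hg)))
  have hCK : cent F.x ≤ K.comap (qz G) := fun g hg =>
    mem_comap.2 (mem_centralizer_singleton_iff.2 (by rw [← map_mul, ← map_mul, mem_cent.1 hg]))
  have hidx : ∀ {t : ℕ}, t.Prime → t ∣ K.index → t = p := by
    intro t ht hd
    rw [← index_comap_of_surjective K (QuotientGroup.mk'_surjective (center G))] at hd
    by_contra htp
    have h1 := S.cl_eq F.x F.hxr F.hxZ
    have := huniq t ht htp (h1 ▸ (hd.trans (index_dvd_of_le hCK) : t ∣ cl F.x))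
    subst this
    exact F.syl.not_dvd_index (hd.trans (index_dvd_of_le hSK))
  haveI hsol := CharInt.isSolvable_normalClosure_of_class_prime_pow (Nat.card (G ⧸ center G)) le_rfl
    (qz G F.x) S.hp ⟨_, Nat.eq_prime_pow_of_unique_prime_dvd index_ne_zero_of_finite hidx⟩
  set Mb := normalClosure ({qz G F.x} : Set (G ⧸ center G))
  set M := Mb.comap (qz G) with hM
  haveI : M.Normal := inferInstanceAs (Mb.comap (qz G)).Normal
  haveI : Group.IsSolvable M := isSolvable_comap_qz Mb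
  -- the largest normal subgroup without noncentral regular elements
  obtain ⟨N₀, hN₀⟩ := Set.Finite.exists_maximal
    (s := {N : Subgroup G | N.Normal ∧ center G ≤ N ∧ RegCentral p N}) (Set.toFinite _)
    ⟨center G, inferInstance, le_rfl, fun _ h _ => h⟩
  haveI := hN₀.1.1
  set π := QuotientGroup.mk' N₀
  haveI : (M.map π).Normal := ‹M.Normal›.map _ (QuotientGroup.mk'_surjective N₀)
  have hMne : M.map π ≠ ⊥ := by
    rw [Ne, Subgroup.map_eq_bot_iff, QuotientGroup.ker_mk']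
    exact fun h => F.hxZ (hN₀.1.2.2 F.x (h (mem_comap.2 (subset_normalClosure rfl))) F.hxr)
  haveI : Group.IsSolvable (M.map π) :=
    Group.isSolvable_of_surjective (f := π.subgroupMap M) (π.subgroupMap_surjective M)
  obtain ⟨A₀, r, hA₀n, -, hA₀, -, -, hr, hA₀r⟩ :=
    Solvable.exists_abelian_minimal_normal (K := M.map π) inferInstance hMne
  haveI := Fact.mk hr
  set A := A₀.comap π with hA
  haveI : A.Normal := hA₀n.comap π
  have hNA : N₀ ≤ A := fun g hg => mem_comap.2 (by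
    rw [show π g = 1 from (QuotientGroup.eq_one_iff g).2 hg]
    exact one_mem _)
  have hlt : ¬ A ≤ N₀ := fun h => hA₀ (by
    rw [← map_comap_eq_self_of_surjective (QuotientGroup.mk'_surjective N₀) A₀,
      Subgroup.map_eq_bot_iff, QuotientGroup.ker_mk']
    exact h)
  obtain ⟨g, hgA, hgr, hgZ⟩ : ∃ g ∈ A, Reg p g ∧ g ∉ center G := by
    by_contra h
    push Not at h
    exact hlt (hN₀.2 ⟨inferInstance, hN₀.1.2.1.trans hNA, fun g hg hgr => h g hg hgr⟩ hNA)
  have hprim : ∀ {t : ℕ} {y : G}, t.Prime → y ∈ A → IsPEl t y → Reg p y → y ∉ center G → t = r := by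
    intro t y ht hyA hyt hyr hyZ
    by_contra htr
    obtain ⟨k, hk⟩ := hA₀r ⟨π y, mem_comap.1 hyA⟩
    have hk' : y ^ r ^ k ∈ N₀ := (QuotientGroup.eq_one_iff _).1 (by
      have := congrArg Subtype.val hk
      simpa [π] using this)
    obtain ⟨i, hi⟩ := hyt.orderOf_dvd
    have hco : (orderOf y).Coprime (r ^ k) :=
      (((Nat.coprime_primes ht hr).2 htr).pow i k).coprime_dvd_left hi
    obtain ⟨j, hj⟩ := exists_pow_eq_self_of_coprime hco.symm
    exact hyZ (hj ▸ pow_mem (hN₀.1.2.2 _ hk' (hyr.of_mem_zpowers (pow_mem (mem_zpowers y) _))) j)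
  obtain ⟨t, ht, htp, y, hy, hyt, hyZ⟩ := exists_primary hgr hgZ
  have hyA : y ∈ A := (zpowers_le.2 hgA) hy
  obtain rfl := hprim ht hyA hyt (hgr.of_mem_zpowers hy) hyZ
  -- a Sylow subgroup of `A` inside a centraliser
  obtain ⟨P, hP⟩ : ∃ P : Sylow t G, ∃ w : G, Reg p w ∧ w ∉ center G ∧
      (P : Subgroup G) ⊓ A ≤ cent w := by
    by_cases hts : t = s
    · subst hts
      refine ⟨F.syl, F.x, F.hxr, F.hxZ, fun u hu => ?_⟩
      by_contra huc
      obtain ⟨a, ha, haZ⟩ := S.exists_notMem_rpart F.hxr F.hxZ hq hqp he heZ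
      refine haZ (F.fix_eq_one hq hqp hqs (mem_inf.1 hu).1 huc ha ?_)
      have h1 : u * a * u⁻¹ * a⁻¹ ∈ rpart q F.x :=
        mul_mem (S.conj_mem_rpart F.hxr F.hxZ hq hqp (F.le_normalizer (mem_inf.1 hu).1) ha)
          (inv_mem ha)
      have h2 : u * a * u⁻¹ * a⁻¹ ∈ A := by
        rw [show u * a * u⁻¹ * a⁻¹ = u * (a * u⁻¹ * a⁻¹) by group]
        exact mul_mem (mem_inf.1 hu).2
          (‹A.Normal›.conj_mem _ (inv_mem (mem_inf.1 hu).2) a)
      by_contra hZ
      exact hqs (hprim hq h2 ((S.mem_rpart F.hxr F.hxZ hq hqp).1 h1).2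
        (S.reg_of_rpart F.hxr F.hxZ hq hqp h1) hZ)
    · obtain ⟨Q, hQ⟩ := S.exists_rpart_eq_sylow htp (fun h => hts (huniq t ht htp h)) F.hxr F.hxZ
      exact ⟨Q, F.x, F.hxr, F.hxZ, inf_le_left.trans (hQ ▸ rpart_le t F.x)⟩
  obtain ⟨w, hw, hwZ, hle⟩ := hP
  obtain ⟨W, hW⟩ := SylowCount.exists_sylow_inf P A
  set V := (W : Subgroup A).map A.subtype with hV
  have hVeq : V = (P : Subgroup G) ⊓ A := by
    rw [hV, hW, subgroupOf_map_subtype]
  -- a noncentral element in it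
  obtain ⟨y', hy'V, hy'r, hy'Z⟩ : ∃ y' ∈ V, Reg p y' ∧ y' ∉ center G := by
    obtain ⟨Q, hQ⟩ := hyt.isPGroup_zpowers.exists_le_sylow
    obtain ⟨c, hc⟩ := MulAction.exists_smul_eq G Q P
    refine ⟨c * y * c⁻¹, hVeq ▸ mem_inf.2 ⟨?_, ‹A.Normal›.conj_mem _ hyA c⟩,
      (hgr.of_mem_zpowers hy).conj c, conj_notMem_center hyZ c⟩
    rw [← hc, Sylow.coe_subgroup_smul, mem_pointwise_smul_iff_inv_smul_mem]
    simpa [MulAut.smul_def, mul_assoc] using hQ (mem_zpowers y)
  have hNV : normalizer (V : Set G) ≤ normalizer (cent w : Set G) := fun n hn =>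
    S.mem_normalizer hw hwZ hy'r hy'Z (hle (hVeq ▸ hy'V))
      (hle (hVeq ▸ (mem_normalizer_iff.1 hn y').1 hy'V))
  have hAV : A ≤ V ⊔ N₀ := by
    rw [← relIndex_eq_one]
    refine Nat.eq_one_of_dvd_coprimes ?_ (relIndex_dvd_of_le_left A (le_sup_left (b := N₀)))
      (relIndex_dvd_of_le_left A (le_sup_right (a := V)))
    have h1 : V.relIndex A = (W : Subgroup A).index := by
      rw [relIndex, hV, subgroupOf, comap_map_eq_self_of_injective A.subtype_injective]
    have h2 : N₀.relIndex A = Nat.card A₀ := by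
      have := relIndex_ker (K := A) π
      rwa [QuotientGroup.ker_mk', map_comap_eq_self_of_surjective (QuotientGroup.mk'_surjective N₀)]
        at this
    obtain ⟨k, hk⟩ := IsPGroup.iff_card.1 hA₀r
    rw [h1, h2, hk]
    exact (((ht.coprime_iff_not_dvd).2 W.not_dvd_index).pow_left k).symm
  have htop : N₀ ⊔ normalizer (cent w : Set G) = ⊤ := by
    refine eq_top_iff.2 ((Sylow.normalizer_sup_eq_top W).ge.trans (sup_le ?_ ?_))
    · exact hNV.trans le_sup_right
    · exact hAV.trans (sup_le (Subgroup.le_normalizer.trans (hNV.trans le_sup_right)) le_sup_left)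
  have hconj : ∀ {x : G}, Reg p x → x ∉ center G →
      ∃ k ∈ N₀, ∀ v, v ∈ cent x ↔ k⁻¹ * v * k ∈ cent w := by
    intro x hx hxZ
    obtain ⟨g₁, hg₁⟩ := S.exists_conj_cent hqp hqm he heZ hw hwZ hx hxZ
    obtain ⟨k, hk, n, hn, rfl⟩ := mem_sup_of_normal_left.1 (htop ▸ mem_top g₁)
    refine ⟨k, hk, fun v => (hg₁ v).trans ?_⟩
    refine Iff.trans (by rw [show (k * n)⁻¹ * v * (k * n) = n⁻¹ * (k⁻¹ * v * k) * n by group])
      (mem_normalizer_iff''.1 hn _).symm
  obtain ⟨k₁, hk₁, h₁⟩ := hconj F.hxr F.hxZ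
  obtain ⟨k₂, hk₂, h₂⟩ := hconj F.hyr F.hyZ
  set k := k₁ * k₂⁻¹ with hk
  have hkN : k ∈ N₀ := mul_mem hk₁ (inv_mem hk₂)
  have hyx : k * F.y * k⁻¹ ∈ cent F.x := by
    rw [h₁, hk, show k₁⁻¹ * (k₁ * k₂⁻¹ * F.y * (k₁ * k₂⁻¹)⁻¹) * k₁ = k₂⁻¹ * F.y * k₂ by group]
    exact (h₂ F.y).1 (self_mem_cent _)
  have hyS : k * F.y * k⁻¹ ∈ (F.syl : Subgroup G) := F.rpart_le_syl
    (mem_rpart_of hyx ((isPEl_of_mem F.syl.2 F.hyS).conj k))
  have hdN : F.y⁻¹ * (k * F.y * k⁻¹) ∈ N₀ := by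
    rw [show F.y⁻¹ * (k * F.y * k⁻¹) = F.y⁻¹ * k * F.y * k⁻¹ by group]
    exact mul_mem (by simpa using hN₀.1.1.conj_mem _ hkN F.y⁻¹) (inv_mem hkN)
  have hdZ := hN₀.1.2.2 _ hdN (S.reg_of_mem_sylow hs hsp (mul_mem (inv_mem F.hyS) hyS))
  refine F.hy ?_
  rw [show F.y = k * F.y * k⁻¹ * (F.y⁻¹ * (k * F.y * k⁻¹))⁻¹ by group]
  exact mul_mem hyx (center_le_cent _ (inv_mem hdZ))

end Hyp

end Cfsg.Agent.ClassSize.RegTwo
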