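import Cfsg.Agent.Lib.ClassSize.RegTwo.Pair
import Cfsg.Agent.Lib.ClassSize.RegTwo.Single

/-!
# Two class sizes of `p`-regular elements: the structure theorem
-/

set_option autoImplicit false
set_option linter.style.haveILetI false
set_option linter.unusedSectionVars false

namespace Cfsg.Agent.ClassSize.RegTwo

open Subgroup
open Cfsg.Agent.ClassSize.CoprimeTop (cent cl mem_cent cent_comm self_mem_cent center_le_cent cl_eq_one)
open Cfsg.Agent.ClassSize.TwoSteps (IsPEl pp isPEl_of_mem)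

universe u

variable {G : Type u} [Group G] [Finite G] {p m : ℕ}

theorem Hyp.exists_abelian_complement (S : Hyp G p m) :
    ∃ H : Subgroup G, IsMulCommutative H ∧ ¬ p ∣ Nat.card H ∧ ∃ k : ℕ, H.index = p ^ k := by
  have hm : ∀ r : ℕ, r.Prime → r ≠ p → ¬ r ∣ m := fun r hr hrp hrm => by
    haveI := Fact.mk hr
    exact S.false_of_single hrp hrm fun t ht htp htm => by
      by_contra htr
      exact S.false_of_two_primes ht hr htp hrp htr htm hrm
  obtain ⟨q, hq, hqp, -, x, hxq, hxZ⟩ := S.other p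
  have hx := reg_of_isPEl S.hp hq hqp hxq
  let H : Subgroup G :=
    { carrier := {g | g ∈ cent x ∧ Reg p g}
      one_mem' := ⟨one_mem _, by simp [Reg]⟩
      mul_mem' := fun {a b} ha hb => ⟨mul_mem ha.1 hb.1, (ha.2.mul_left hb.2).coprime_dvd_left
        (show Commute a b from S.commute_of_mem hx hxZ ha.2 ha.1 hb.1).orderOf_mul_dvd_mul_orderOf⟩
      inv_mem' := fun {a} ha => ⟨inv_mem ha.1, by simpa [Reg] using ha.2⟩ }
  refine ⟨H, ⟨⟨fun a b => Subtype.ext (S.commute_of_mem hx hxZ a.2.2 a.2.1 b.2.1)⟩⟩, fun hd => ?_, ?_⟩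
  · haveI := Fact.mk S.hp
    obtain ⟨a, ha⟩ := exists_prime_orderOf_dvd_card' p hd
    have h := a.2.2
    rw [Reg, Subgroup.orderOf_coe, ha, Nat.coprime_self] at h
    exact S.hp.ne_one h
  · refine ⟨_, Nat.eq_prime_pow_of_unique_prime_dvd index_ne_zero_of_finite fun {r} hr hd => ?_⟩
    by_contra hrp
    haveI := Fact.mk hr
    obtain ⟨Q, hQ⟩ := S.exists_rpart_eq_sylow hrp (hm r hr hrp) hx hxZ
    refine Q.not_dvd_index (hd.trans (index_dvd_of_le ?_))
    rw [hQ]
    exact fun g hg => ⟨rpart_le r x hg, S.reg_of_rpart hx hxZ hr hrp hg⟩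

/-- At most one prime `≠ p` has noncentral elements. -/
theorem product_decomposition (hp : p.Prime) {q : ℕ} [hqF : Fact q.Prime] (hqp : q ≠ p)
    (hc : ∀ r : ℕ, r.Prime → r ≠ p → r ≠ q → ∀ e : G, IsPEl r e → e ∈ center G) :
    ∃ (P : Sylow p G) (Q : Sylow q G) (A : Subgroup G),
      A ≤ Subgroup.center G ∧
      Nat.card ↥((P : Subgroup G) ⊔ (Q : Subgroup G)) = Nat.card P * Nat.card Q ∧
      ((P : Subgroup G) ⊔ (Q : Subgroup G)).Normal ∧
      ((P : Subgroup G) ⊔ (Q : Subgroup G)) ⊓ A = ⊥ ∧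
      ((P : Subgroup G) ⊔ (Q : Subgroup G)) ⊔ A = ⊤ := by
  haveI := Fact.mk hp
  have hq := hqF.out
  let A : Subgroup G :=
    { carrier := {g | g ∈ center G ∧ (orderOf g).Coprime (p * q)}
      one_mem' := ⟨one_mem _, by simp⟩
      mul_mem' := fun {a b} ha hb => ⟨mul_mem ha.1 hb.1, (ha.2.mul_left hb.2).coprime_dvd_left
        (show Commute a b from (mem_center_iff.1 ha.1 b).symm).orderOf_mul_dvd_mul_orderOf⟩
      inv_mem' := fun {a} ha => ⟨inv_mem ha.1, by simpa using ha.2⟩ }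
  have hAZ : A ≤ center G := fun _ h => h.1
  haveI hAn : A.Normal := ⟨fun a ha g => by
    rwa [mem_center_iff.1 (hAZ ha) g, mul_inv_cancel_right]⟩
  have hdvd : ∀ r : ℕ, r.Prime → r ∣ Nat.card A → r ≠ p ∧ r ≠ q := by
    intro r hr hd
    haveI := Fact.mk hr
    obtain ⟨a, ha⟩ := exists_prime_orderOf_dvd_card' r hd
    have h := a.2.2
    rw [Subgroup.orderOf_coe, ha] at h
    constructor <;> rintro rfl
    · exact hr.ne_one (Nat.coprime_self r |>.1 h.coprime_mul_right_right)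
    · exact hr.ne_one (Nat.coprime_self r |>.1 h.coprime_mul_left_right)
  have hother : ∀ r : ℕ, r.Prime → r ∣ A.index → r = p ∨ r = q := by
    intro r hr hd
    by_contra h
    push Not at h
    haveI := Fact.mk hr
    obtain ⟨R⟩ : Nonempty (Sylow r G) := inferInstance
    refine R.not_dvd_index (hd.trans (index_dvd_of_le fun g hg => ?_))
    have hgr := isPEl_of_mem R.2 hg
    refine ⟨hc r hr h.1 h.2 g hgr, ?_⟩
    obtain ⟨k, hk⟩ := hgr.orderOf_dvd
    exact (((Nat.coprime_primes hr hp).2 h.1).mul_right ((Nat.coprime_primes hr hq).2 h.2)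
      |>.pow_left k).coprime_dvd_left hk
  have hco : (Nat.card A).Coprime A.index := Nat.coprime_of_dvd fun r hr hd hd' => by
    have := hdvd r hr hd
    rcases hother r hr hd' with h | h
    · exact this.1 h
    · exact this.2 h
  obtain ⟨K, hK⟩ := exists_right_complement'_of_coprime hco
  haveI hKn : K.Normal := normalizer_eq_top_iff.1 (eq_top_iff.2 (hK.sup_eq_top.ge.trans
    (sup_le (fun a ha => mem_normalizer_iff.2 fun v => by
      rw [← mem_center_iff.1 (hAZ ha) v, mul_inv_cancel_right]) le_normalizer)))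
  have hcK : Nat.card K = A.index := hK.symm.index_eq_card.symm
  have hiK : K.index = Nat.card A := hK.index_eq_card
  obtain ⟨P⟩ : Nonempty (Sylow p G) := inferInstance
  obtain ⟨Q⟩ : Nonempty (Sylow q G) := inferInstance
  have hle : ∀ {r : ℕ} [Fact r.Prime] (R : Sylow r G), (r = p ∨ r = q) → (R : Subgroup G) ≤ K := by
    intro r _ R hr g hg
    obtain ⟨k, hk⟩ := (isPEl_of_mem R.2 hg).orderOf_dvd
    have hco' : (r ^ k).Coprime K.index := Nat.Coprime.pow_left k
      ((Fact.out (p := r.Prime)).coprime_iff_not_dvd.2 fun hd => by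
        have := hdvd r Fact.out (hiK ▸ hd)
        rcases hr with h | h
        · exact this.1 h
        · exact this.2 h)
    have h1 := Nat.eq_one_of_dvd_coprimes hco' ((orderOf_map_dvd (QuotientGroup.mk' K) g).trans hk)
      (by rw [index_eq_card]; exact orderOf_dvd_natCard _)
    exact (QuotientGroup.eq_one_iff g).1 (orderOf_eq_one_iff.1 h1)
  set J := (P : Subgroup G) ⊔ (Q : Subgroup G) with hJ
  have hJK : J ≤ K := sup_le (hle P (Or.inl rfl)) (hle Q (Or.inr rfl))
  have hPQ : Nat.card P * Nat.card Q ∣ Nat.card J := by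
    refine Nat.Coprime.mul_dvd_of_dvd_of_dvd ?_ (card_dvd_of_le le_sup_left) (card_dvd_of_le le_sup_right)
    rw [P.card_eq_multiplicity, Q.card_eq_multiplicity]
    exact ((Nat.coprime_primes hp hq).2 hqp.symm).pow _ _
  have hKPQ : Nat.card K ∣ Nat.card P * Nat.card Q := by
    refine (Nat.dvd_iff_prime_pow_dvd_dvd _ _).2 fun r k hr hd => ?_
    rcases Nat.eq_zero_or_pos k with rfl | hk
    · simp
    · have hG : r ^ k ∣ Nat.card G := hd.trans (card_subgroup_dvd_card K)
      rcases hother r hr (hcK ▸ (dvd_pow_self r hk.ne').trans hd) with rfl | rfl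
      · exact dvd_mul_of_dvd_left (by
          rw [P.card_eq_multiplicity]
          exact (Nat.Prime.pow_dvd_iff_dvd_ordProj hr Nat.card_pos.ne').1 hG) _
      · exact dvd_mul_of_dvd_right (by
          rw [Q.card_eq_multiplicity]
          exact (Nat.Prime.pow_dvd_iff_dvd_ordProj hr Nat.card_pos.ne').1 hG) _
  have hJeq : J = K := eq_of_le_of_card_ge hJK
    (Nat.le_of_dvd Nat.card_pos (hKPQ.trans hPQ))
  refine ⟨P, Q, A, hAZ, Nat.dvd_antisymm ((card_dvd_of_le hJK).trans hKPQ) hPQ,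
    by rw [← hJ, hJeq]; exact hKn, ?_, ?_⟩
  · rw [← hJ, hJeq]
    exact disjoint_iff.1 hK.disjoint.symm
  · rw [← hJ, hJeq, sup_comm]
    exact hK.sup_eq_top

theorem structure_of_two_sizes (hp : p.Prime)
    (h2 : Set.ncard (Set.range fun x : {x : G // (orderOf x).Coprime p} =>
      (ConjClasses.mk (x : G)).carrier.ncard) = 2) :
    (∃ H : Subgroup G, IsMulCommutative H ∧ ¬ p ∣ Nat.card H ∧ ∃ k : ℕ, H.index = p ^ k) ∨
    (∃ (q : ℕ) (_ : Fact q.Prime) (P : Sylow p G) (Q : Sylow q G) (A : Subgroup G), q ≠ p ∧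
      A ≤ Subgroup.center G ∧
      Nat.card ↥((P : Subgroup G) ⊔ (Q : Subgroup G)) = Nat.card P * Nat.card Q ∧
      ((P : Subgroup G) ⊔ (Q : Subgroup G)).Normal ∧
      ((P : Subgroup G) ⊔ (Q : Subgroup G)) ⊓ A = ⊥ ∧
      ((P : Subgroup G) ⊔ (Q : Subgroup G)) ⊔ A = ⊤) := by
  classical
  have hcl : ∀ x : G, (ConjClasses.mk x).carrier.ncard = cl x := fun x => PrimeParts.ncard_carrier x
  obtain ⟨a, b, hab, hR⟩ := Set.ncard_eq_two.1 h2
  have hmem : ∀ x : G, Reg p x → cl x = a ∨ cl x = b := fun x hx => by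
    have : (ConjClasses.mk x).carrier.ncard ∈ ({a, b} : Set ℕ) := hR ▸ ⟨⟨x, hx⟩, rfl⟩
    rwa [hcl, Set.mem_insert_iff, Set.mem_singleton_iff] at this
  have h1 : cl (1 : G) = 1 := cl_eq_one.2 (one_mem _)
  obtain ⟨m, hm⟩ : ∃ m, ∀ x : G, Reg p x → x ∉ center G → cl x = m := by
    rcases hmem 1 (by simp [Reg]) with h | h
    · exact ⟨b, fun x hx hxZ => (hmem x hx).resolve_left fun e =>
        hxZ (cl_eq_one.1 (e.trans (h.symm.trans h1)))⟩
    · exact ⟨a, fun x hx hxZ => (hmem x hx).resolve_right fun e =>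
        hxZ (cl_eq_one.1 (e.trans (h.symm.trans h1)))⟩
  by_cases ho : ∀ q : ℕ, ∃ r : ℕ, r.Prime ∧ r ≠ p ∧ r ≠ q ∧ ∃ e : G, IsPEl r e ∧ e ∉ center G
  · exact Or.inl ((⟨hp, hm, ho⟩ : Hyp G p m).exists_abelian_complement)
  · push Not at ho
    obtain ⟨q, hq⟩ := ho
    obtain ⟨x, hx, hxZ⟩ : ∃ x : G, Reg p x ∧ x ∉ center G := by
      by_contra hall
      push Not at hall
      have ha := hR.ge (Set.mem_insert a {b})
      have hb := hR.ge (Set.mem_insert_of_mem a (Set.mem_singleton b))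
      obtain ⟨⟨u, hu⟩, hua⟩ := ha
      obtain ⟨⟨v, hv⟩, hvb⟩ := hb
      refine hab (hua ▸ hvb ▸ ?_)
      show (ConjClasses.mk u).carrier.ncard = (ConjClasses.mk v).carrier.ncard
      rw [hcl, hcl, cl_eq_one.2 (hall u hu), cl_eq_one.2 (hall v hv)]
    obtain ⟨s, hs, hsp, y, -, hys, hyZ⟩ := exists_primary hx hxZ
    have hsq : s = q := by
      by_contra hne
      exact hyZ (hq s hs hsp hne y hys)
    subst hsq
    haveI := Fact.mk hs
    obtain ⟨P, Q, A, h⟩ := product_decomposition hp hsp hq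
    exact Or.inr ⟨s, inferInstance, P, Q, A, hsp, h⟩

end Cfsg.Agent.ClassSize.RegTwo
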