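import Cfsg.Agent.Lib.ClassSize.RegTwo.Transvection

/-!
# Two class sizes of `p`-regular elements: at most one prime `≠ p` divides the class size
-/

set_option autoImplicit false
set_option linter.style.haveILetI false
set_option linter.unusedSectionVars false

namespace Cfsg.Agent.ClassSize.RegTwo

open Finset

section Aux

/-- Additive endomorphisms of a `ZMod r`-module are linear. -/
def linEnd (r : ℕ) (V : Type*) [AddCommGroup V] [Module (ZMod r) V] :
    AddMonoid.End V →+* Module.End (ZMod r) V where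
  toFun f := AddMonoidHom.toZModLinearMap r f
  map_one' := rfl
  map_mul' _ _ := rfl
  map_zero' := rfl
  map_add' _ _ := rfl

theorem end_mul_apply {M : Type*} [AddCommMonoid M] (f g : AddMonoid.End M) (v : M) :
    (f * g) v = f (g v) := rfl

theorem linEnd_apply {r : ℕ} {V : Type*} [AddCommGroup V] [Module (ZMod r) V] (f : AddMonoid.End V)
    (v : V) : linEnd r V f v = f v := rfl

open scoped IsMulCommutative in
/-- If all elements of the coset `V n` have order dividing `s`, the norm of `n` vanishes. -/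
theorem norm_eq_zero_of_pow {H : Type*} [Group H] (V : Subgroup H) [IsMulCommutative V] {s : ℕ}
    {n : Subgroup.normalizer (V : Set H)} (hs : (n : H) ^ s = 1)
    (h : ∀ v ∈ V, (v * (n : H)) ^ s = 1) : ∑ i ∈ range s, conjEnd V n ^ i = 0 := by
  refine DFunLike.ext _ _ fun v => Additive.toMul.injective (Subtype.ext ?_)
  have key : ∀ k, (((Additive.toMul v : V) : H) * n) ^ k =
      ((Additive.toMul ((∑ i ∈ range k, conjEnd V n ^ i) v) : V) : H) * (n : H) ^ k := by
    intro k
    induction k with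
    | zero =>
      rw [pow_zero, pow_zero, Finset.sum_range_zero]
      exact (one_mul _).symm
    | succ k ih =>
      have hc : ((Additive.toMul ((conjEnd V n ^ k) v) : V) : H) =
          (n : H) ^ k * (Additive.toMul v : V) * ((n : H) ^ k)⁻¹ := by
        rw [← map_pow, conjEnd_apply]
        simp
      rw [pow_succ, ih, Finset.sum_range_succ]
      show _ = ((Additive.toMul ((∑ i ∈ range k, conjEnd V n ^ i) v) : V) : H) *
        ((Additive.toMul ((conjEnd V n ^ k) v) : V) : H) * (n : H) ^ (k + 1)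
      rw [hc, pow_succ]
      group
  have := key s
  rw [hs, mul_one, h _ (Additive.toMul v).2] at this
  exact this.symm

/-- Trivial norms, a cyclic fixed space and all powers similar: `s ≤ r`. -/
theorem not_lt_of_similar {M : Type*} [AddCommGroup M] [Finite M] [Nontrivial M] {r s : ℕ}
    [Fact r.Prime] [Fact s.Prime] (hMr : ∀ v : M, r • v = 0) (a g : AddMonoid.End M)
    (ha : ∑ i ∈ range s, a ^ i = 0) (hg : ∑ i ∈ range r, g ^ i = 0) (w : M)
    (hker : ∀ v, g v = v → ∃ i : ℤ, v = i • w)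
    (hsim : ∀ e : ℕ, ¬ s ∣ e → ∃ t : (AddMonoid.End M)ˣ, (t : AddMonoid.End M) * a = a ^ e * t) :
    ¬ r < s := by
  intro hlt
  haveI : Module (ZMod r) M := AddCommGroup.zmodModule hMr
  have h1 : Module.finrank (ZMod r) M ≤ r - 1 := by
    refine finrank_le_of_norm (linEnd r M g) (by simpa using congrArg (linEnd r M) hg) ?_
    have hle : LinearMap.ker (linEnd r M g - 1) ≤ Submodule.span (ZMod r) {w} := by
      intro v hv
      obtain ⟨i, rfl⟩ := hker v (sub_eq_zero.1 (LinearMap.mem_ker.1 hv))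
      refine Submodule.mem_span_singleton.2 ⟨(i : ZMod r), ?_⟩
      rw [Int.cast_smul_eq_zsmul]
    refine (Submodule.finrank_mono hle).trans ((finrank_span_le_card ({w} : Set M)).trans ?_)
    simp
  have h2 : s - 1 ≤ Module.finrank (ZMod r) M := by
    refine le_finrank_of_similar hlt.ne (linEnd r M a) (by simpa using congrArg (linEnd r M) ha)
      fun e he => ?_
    obtain ⟨t, ht⟩ := hsim e he
    refine ⟨t.map (linEnd r M : AddMonoid.End M →* Module.End (ZMod r) M), ?_⟩
    simpa using congrArg (linEnd r M) ht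
  have := (Fact.out : r.Prime).two_le
  omega

/-- A fixed vector of `g` is `0` if `g` acts by a nontrivial power on `a` and both norms vanish. -/
theorem fixed_eq_zero {M : Type*} [AddCommGroup M] {r s b : ℕ} [Fact r.Prime] [Fact s.Prime]
    (hrs : r ≠ s) (a g : AddMonoid.End M) (ha : ∑ i ∈ range s, a ^ i = 0)
    (hg : ∑ i ∈ range r, g ^ i = 0) (hga : g * a = a ^ b * g) (hb : (b : ZMod s) ≠ 1) (w : M)
    (hw : g w = w) (hwr : r • w = 0) : w = 0 := by
  classical
  by_contra hw0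
  have has : a ^ s = 1 := by
    have := geom_sum_mul a s
    rwa [ha, zero_mul, eq_comm, sub_eq_zero] at this
  have hgr : g ^ r = 1 := by
    have := geom_sum_mul g r
    rwa [hg, zero_mul, eq_comm, sub_eq_zero] at this
  have hsum : ∀ (f : AddMonoid.End M) (n : ℕ),
      (∑ i ∈ range n, f ^ i) w = ∑ i ∈ range n, (f ^ i) w :=
    fun f n => map_sum (AddMonoidHom.eval w) _ _
  have ha1 : a ≠ 1 := by
    rintro rfl
    refine hw0 ?_
    have h := DFunLike.congr_fun ha w
    rw [hsum] at h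
    simp only [one_pow, AddMonoid.End.coe_one, id, sum_const, card_range] at h
    exact AddMonoid.addOrderOf_eq_one_iff.1 (Nat.eq_one_of_dvd_coprimes
      ((Nat.coprime_primes Fact.out Fact.out).2 hrs) (addOrderOf_dvd_of_nsmul_eq_zero hwr)
      (addOrderOf_dvd_of_nsmul_eq_zero h))
  have hord : orderOf a = s := orderOf_eq_prime has ha1
  have hfin : IsOfFinOrder a := isOfFinOrder_iff_pow_eq_one.2 ⟨s, (Fact.out : s.Prime).pos, has⟩
  have hsc : ∀ i k, g ^ i * a ^ k = a ^ (k * b ^ i) * g ^ i := by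
    intro i
    induction i with
    | zero => simp
    | succ i ih =>
      intro k
      have h1 : g * a ^ k = a ^ (k * b) * g := by
        induction k with
        | zero => simp
        | succ k ihk =>
          rw [pow_succ, ← mul_assoc, ihk, mul_assoc, hga, ← mul_assoc, ← pow_add, Nat.succ_mul]
      rw [pow_succ, mul_assoc, h1, ← mul_assoc, ih, mul_assoc]
      ring_nf
  have hbr : (b : ZMod s) ^ r = 1 := by
    have h1 := hsc r 1
    rw [hgr, one_mul, mul_one, pow_one, one_mul] at h1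
    rw [← pow_one a, ← pow_mul, one_mul, hfin.pow_eq_pow_iff_modEq, hord] at h1
    exact_mod_cast ((ZMod.natCast_eq_natCast_iff' _ _ _).2 h1.symm)
  have hb0 : (b : ZMod s) ≠ 0 := fun h => by
    rw [h, zero_pow (Fact.out : r.Prime).ne_zero] at hbr
    exact zero_ne_one hbr
  let β : (ZMod s)ˣ := Units.mk0 _ hb0
  have hβ : orderOf β = r := orderOf_eq_prime (Units.ext (by simpa [β] using hbr))
    (fun h => hb (by simpa [β] using congrArg Units.val h))
  let f : ZMod s → M := fun u => (a ^ u.val) w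
  have hf : ∀ u : (ZMod s)ˣ, ∑ i ∈ range (orderOf β), f ((u * β ^ i : (ZMod s)ˣ) : ZMod s) = 0 := by
    intro u
    rw [hβ]
    have h0 : (∑ i ∈ range r, g ^ i) ((a ^ (u : ZMod s).val) w) = 0 := by rw [hg]; rfl
    rw [← h0, show (∑ i ∈ range r, g ^ i) ((a ^ (u : ZMod s).val) w) =
      ∑ i ∈ range r, (g ^ i) ((a ^ (u : ZMod s).val) w) from
        map_sum (AddMonoidHom.eval _) _ _]
    refine sum_congr rfl fun i _ => ?_
    have hgw : (g ^ i) w = w := by
      clear * - hw
      induction i with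
      | zero => rfl
      | succ i ih => rw [pow_succ, end_mul_apply, hw, ih]
    rw [← end_mul_apply, hsc, end_mul_apply, hgw]
    show (a ^ ((u * β ^ i : (ZMod s)ˣ) : ZMod s).val) w = _
    congr 1
    refine hfin.pow_eq_pow_iff_modEq.2 ?_
    rw [hord]
    refine (ZMod.natCast_eq_natCast_iff' _ _ _).1 ?_
    simp [β]
  have h2 := sum_units_eq_zero β (fun u : (ZMod s)ˣ => f u) hf
  refine hw0 ?_
  have h3 : ∑ u : ZMod s, f u = 0 := by
    have : ∑ u : ZMod s, f u = ∑ i ∈ range s, (a ^ i) w := by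
      refine Finset.sum_bij' (fun u _ => u.val) (fun i _ => (i : ZMod s)) ?_ ?_ ?_ ?_ ?_ <;>
        simp +contextual [f, ZMod.val_lt, Nat.mod_eq_of_lt]
    rw [this, ← hsum, ha]
    rfl
  rw [← Finset.sum_erase_add _ _ (mem_univ (0 : ZMod s))] at h3
  have h4 : ∑ u ∈ univ.erase (0 : ZMod s), f u = ∑ u : (ZMod s)ˣ, f u := by
    rw [← Finset.sum_subtype _ (p := fun u => u ≠ 0) (by simp) f |>.symm]
    exact ((unitsEquivNeZero (G₀ := ZMod s)).sum_comp fun u => f u).symm
  rw [h4, h2, zero_add] at h3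
  simpa [f] using h3

end Aux

open Subgroup
open scoped IsMulCommutative
open Cfsg.Agent.ClassSize.CoprimeTop (cent cl mem_cent cent_comm self_mem_cent center_le_cent)
open Cfsg.Agent.ClassSize.TwoSteps (IsPEl pp isPEl_of_mem sylow_card pp_mul_cl)

variable {G : Type*} [Group G] [Finite G] {p m r s : ℕ}

namespace Frame

variable (F : Frame G p m s)

/-- Modulo `C(x)`, the elements commuting with `x` modulo the centre are powers of `y`. -/
theorem exists_pow_inv_mul_mem {g : G} (hg : g ∈ normalizer (cent F.x : Set G))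
    (hgx : g * F.x * g⁻¹ * F.x⁻¹ ∈ center G) : ∃ b : ℕ, (F.y ^ b)⁻¹ * g ∈ cent F.x := by
  haveI := Fact.mk F.sp
  set D : Subgroup G := normalizer (cent F.x : Set G) ⊓ (centralizer {qz G F.x}).comap (qz G)
  have hD : ∀ a : G, a ∈ normalizer (cent F.x : Set G) → a * F.x * a⁻¹ * F.x⁻¹ ∈ center G → a ∈ D :=
    fun a h1 h2 => mem_inf.2
      ⟨h1, mem_comap.2 (mem_centralizer_singleton_iff.2 (qz_comm_iff.1 h2))⟩
  have hDc : ∀ a : D, (a : G) * F.x * (a : G)⁻¹ * F.x⁻¹ ∈ center G := fun a =>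
    qz_comm_iff.2 (mem_centralizer_singleton_iff.1 (mem_comap.1 (mem_inf.1 a.2).2))
  let φ : D →* center G := MonoidHom.mk' (fun a => ⟨_, hDc a⟩) fun a b => Subtype.ext (by
    show (a : G) * b * F.x * ((a : G) * b)⁻¹ * F.x⁻¹ =
      (a : G) * F.x * (a : G)⁻¹ * F.x⁻¹ * ((b : G) * F.x * (b : G)⁻¹ * F.x⁻¹)
    rw [← mem_center_iff.1 (hDc a)]
    have hb := hDc b
    generalize hz : (b : G) * F.x * (b : G)⁻¹ * F.x⁻¹ = z at hb ⊢
    calc (a : G) * b * F.x * ((a : G) * b)⁻¹ * F.x⁻¹
        = (a : G) * z * F.x * (a : G)⁻¹ * F.x⁻¹ := by rw [← hz]; group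
      _ = _ := by rw [mem_center_iff.1 hb (a : G)]; group)
  have hker : φ.ker = (cent F.x).subgroupOf D := by
    ext a
    rw [MonoidHom.mem_ker, mem_subgroupOf, mem_cent, Subtype.ext_iff]
    show (a : G) * F.x * (a : G)⁻¹ * F.x⁻¹ = 1 ↔ _
    rw [mul_inv_eq_one, mul_inv_eq_iff_eq_mul, eq_comm]
  have hexp : ∀ z : φ.range, z ^ s = 1 := by
    rintro ⟨_, a, rfl⟩
    refine Subtype.ext (Subtype.ext ?_)
    show ((a : G) * F.x * (a : G)⁻¹ * F.x⁻¹) ^ s = 1
    have hc : Commute ((a : G) * F.x * (a : G)⁻¹ * F.x⁻¹) F.x :=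
      (mem_center_iff.1 (hDc a) F.x).symm
    have h2 := hc.mul_pow s
    rw [inv_mul_cancel_right, conj_pow, mem_center_iff.1 F.hxs (a : G), mul_inv_cancel_right] at h2
    exact mul_eq_right.1 h2.symm
  obtain ⟨k, hk⟩ := IsPGroup.iff_card.1
    (show IsPGroup s φ.range from fun z => ⟨1, by rw [pow_one, hexp]⟩)
  have hcD : cent F.x ≤ D := fun c hc => hD c
    (Subgroup.le_normalizer hc) (qz_comm_iff.2 (by rw [← map_mul, ← map_mul, (mem_cent.1 hc)]))
  have hk1 : k ≤ 1 := by
    have h1 : Nat.card φ.range ∣ cl F.x := by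
      rw [← index_ker, hker]
      exact Dvd.intro _ (relIndex_mul_index hcD)
    have h2 := pp_mul_cl (p := s) F.x
    rw [← sylow_card F.syl, F.card_syl, mul_comm s] at h2
    have h3 : (cl F.x).factorization s = 1 := by
      have := Nat.eq_of_mul_eq_mul_left (pow_pos F.sp.pos _) h2
      exact Nat.pow_right_injective F.sp.two_le (this.trans (pow_one s).symm)
    rw [hk, F.sp.pow_dvd_iff_le_factorization (CoprimeTop.cl_pos _).ne'] at h1
    exact h1.trans h3.le
  have hy : F.y ∈ D := hD _ (F.le_normalizer F.hyS) (F.hcen _ F.hyS)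
  have hne : (⟨φ ⟨F.y, hy⟩, ⟨_, rfl⟩⟩ : φ.range) ≠ 1 := fun h => by
    have : (⟨F.y, hy⟩ : D) ∈ φ.ker := congrArg Subtype.val h
    rw [hker] at this
    exact F.hy (mem_subgroupOf.1 this :)
  have hk0 : k ≠ 0 := by
    rintro rfl
    rw [pow_zero, Subgroup.card_eq_one] at hk
    exact hne (Subtype.ext (Subgroup.mem_bot.1 (hk ▸ (⟨φ ⟨F.y, hy⟩, ⟨_, rfl⟩⟩ : φ.range).2)))
  have hcs : Nat.card φ.range = s := by rw [hk, show k = 1 by omega, pow_one]
  obtain ⟨b, hb⟩ := (Submonoid.mem_powers_iff _ _).1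
    ((isOfFinOrder_of_finite _).mem_powers_iff_mem_zpowers.2
      (mem_zpowers_of_prime_card hcs (g' := ⟨φ ⟨g, hD g hg hgx⟩, ⟨_, rfl⟩⟩) hne))
  refine ⟨b, ?_⟩
  have h1 : φ ((⟨F.y, hy⟩ : D) ^ b)⁻¹ * φ ⟨g, hD g hg hgx⟩ = 1 := by
    rw [map_inv, inv_mul_eq_one, map_pow]
    exact congrArg Subtype.val hb
  rw [← map_mul, ← MonoidHom.mem_ker, hker] at h1
  simpa using mem_subgroupOf.1 h1

end Frame

theorem Hyp.false_of_lt (S : Hyp G p m) [Fact r.Prime] [Fact s.Prime] (hrp : r ≠ p) (hsp : s ≠ p)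
    (hlt : r < s) (hrm : r ∣ m) (hsm : s ∣ m) : False := by
  have hr := Fact.out (p := r.Prime)
  have hs := Fact.out (p := s.Prime)
  obtain ⟨P⟩ : Nonempty (Sylow s G) := inferInstance
  obtain ⟨F, -⟩ := S.exists_frame_at hsp hsm P
  obtain ⟨R, hRc, hRx⟩ := S.exists_frame hrp hrm F.hxr F.hxZ
  have hrp' : rpart r R.x = rpart r F.x := by rw [rpart, rpart, hRc]
  haveI := isMulCommutative_omegaImg S F.hxr F.hxZ hr hrp
  set V := omegaImg r F.x with hV
  have hmemV := fun {v : G ⧸ center G} => mem_omegaImg S F.hxr F.hxZ hr hrp (v := v)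
  have hVr : ∀ v : Additive V, r • v = 0 := fun v =>
    Additive.toMul.injective (Subtype.ext ((hmemV.1 (Additive.toMul v).2).2))
  have hyN := F.le_normalizer F.hyS
  have hgN : R.y ∈ normalizer (cent F.x : Set G) := hRc ▸ R.le_normalizer R.hyS
  let yy : normalizer (V : Set (G ⧸ center G)) :=
    ⟨qz G F.y, qz_mem_normalizer S F.hxr F.hxZ hr hrp hyN⟩
  let gg : normalizer (V : Set (G ⧸ center G)) :=
    ⟨qz G R.y, qz_mem_normalizer S F.hxr F.hxZ hr hrp hgN⟩
  set a := conjEnd V yy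
  set g := conjEnd V gg
  have ha : ∑ i ∈ range s, a ^ i = 0 := F.norm_act hr hrp hlt.ne F.hyS F.hy
  have hg : ∑ i ∈ range r, g ^ i = 0 := by
    refine norm_eq_zero_of_pow V ?_ fun v hv => ?_
    · show qz G R.y ^ r = 1
      rw [← map_pow]
      exact qz_eq_one.2 R.hys
    · obtain ⟨⟨u, hu, rfl⟩, -⟩ := hmemV.1 hv
      show (qz G u * qz G R.y) ^ r = 1
      rw [← map_mul, ← map_pow]
      refine qz_eq_one.2 (R.pow_mem_center (mul_mem (R.rpart_le_syl (hrp' ▸ hu)) R.hyS) fun h =>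
        R.hy ?_)
      rw [hRc] at h ⊢
      exact (mul_mem_cancel_left (rpart_le r _ hu)).1 h
  have hwV : qz G R.x ∈ V := hmemV.2 ⟨mem_map_of_mem _ hRx, R.qz_x_pow⟩
  set w : Additive V := Additive.ofMul ⟨qz G R.x, hwV⟩ with hw
  have hgw : g w = w := Additive.toMul.injective (Subtype.ext
    (mul_inv_eq_iff_eq_mul.2 (qz_comm_iff.1 (R.hcen R.y R.hyS))))
  have hw0 : w ≠ 0 := fun h => R.qz_x_ne_one
    (congrArg (fun v => ((Additive.toMul v : V) : G ⧸ center G)) h)
  have hker : ∀ v : Additive V, g v = v →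
      ∃ i : ℤ, ((Additive.toMul v : V) : G ⧸ center G) = qz G R.x ^ i := by
    intro v hv
    obtain ⟨⟨u, hu, hue⟩, -⟩ := hmemV.1 (Additive.toMul v).2
    have h1 := congrArg (fun z => ((Additive.toMul z : V) : G ⧸ center G)) hv
    simp only [g, conjEnd_apply, gg] at h1
    rw [← hue] at h1 ⊢
    exact R.one_dim hrm (hrp' ▸ hu) (qz_comm_iff.2 (mul_inv_eq_iff_eq_mul.1 h1).symm)
  haveI : Nontrivial (Additive V) := ⟨⟨w, 0, hw0⟩⟩
  by_cases hb : F.Big
  · refine not_lt_of_similar hVr a g ha hg w (fun v hv => ?_) (fun e he => ?_) hlt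
    · exact (hker v hv).imp fun i hi => Additive.toMul.injective (Subtype.ext hi)
    · obtain ⟨c, d, hcd⟩ : ∃ c d : ℤ, c * (e : ℤ) + d * (s : ℤ) = 1 :=
        Int.isCoprime_iff_gcd_eq_one.2 (by
          rw [Int.gcd_natCast_natCast, Nat.gcd_comm]
          exact (Nat.coprime_iff_gcd_eq_one.1 ((hs.coprime_iff_not_dvd).2 he)))
      obtain ⟨t, htN, ht⟩ := F.exists_torus hsm hb c e (-d) (by linear_combination hcd)
      let tt : normalizer (V : Set (G ⧸ center G)) :=
        ⟨qz G t, qz_mem_normalizer S F.hxr F.hxZ hr hrp htN⟩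
      refine ⟨(conjEnd V).toHomUnits tt, ?_⟩
      have h : tt * yy = yy ^ e * tt := Subtype.ext (by
        show qz G t * qz G F.y = qz G F.y ^ e * qz G t
        rw [← zpow_natCast, ← ht, inv_mul_cancel_right])
      show conjEnd V tt * conjEnd V yy = conjEnd V yy ^ e * conjEnd V tt
      rw [← map_mul, h, map_mul, map_pow]
  · replace hb : (rpart s F.x).map (qz G) ≤ zpowers (qz G F.x) := not_not.1 hb
    set y' := R.y * F.y * R.y⁻¹ with hy'
    obtain ⟨b, hb'⟩ : ∃ b : ℕ, (F.y ^ b)⁻¹ * y' ∈ cent F.x := by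
      refine F.exists_pow_inv_mul_mem (mul_mem (mul_mem hgN hyN) (inv_mem hgN)) (qz_comm_iff.2 ?_)
      obtain ⟨j, hj⟩ := mem_zpowers_iff.1 (hb (mem_map_of_mem (qz G)
        (S.conj_mem_rpart F.hxr F.hxZ hs hsp (inv_mem hgN)
          (F.mem_rpart_of_mem F.hxS (self_mem_cent _)))))
      have hc := (show Commute (qz G F.y) (qz G F.x) from
        qz_comm_iff.1 (F.hcen _ F.hyS)).zpow_right j
      rw [hj] at hc
      simp only [map_mul, map_inv, hy'] at hc ⊢
      have := (hc.map (MulAut.conj (qz G R.y)).toMonoidHom).eq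
      simpa [MulAut.conj_apply, mul_assoc] using this
    set c := (F.y ^ b)⁻¹ * y' with hc
    have hga : g * a = a ^ b * g := by
      let cc : normalizer (V : Set (G ⧸ center G)) :=
        ⟨qz G c, qz_mem_normalizer S F.hxr F.hxZ hr hrp (Subgroup.le_normalizer hb')⟩
      have hcc : conjEnd V cc = 1 := DFunLike.ext _ _ fun v => Additive.toMul.injective
        (Subtype.ext (by
          obtain ⟨⟨u, hu, hue⟩, -⟩ := hmemV.1 (Additive.toMul v).2
          show qz G c * ((Additive.toMul v : V) : G ⧸ center G) * (qz G c)⁻¹ = _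
          rw [← hue, ← map_mul, ← S.rpart_comm F.hxr F.hxZ hr hrp hu hb', map_mul,
            mul_inv_cancel_right]
          exact hue))
      have h : gg * yy = yy ^ b * cc * gg := Subtype.ext (by
        show qz G R.y * qz G F.y = qz G F.y ^ b * qz G c * qz G R.y
        rw [hc, hy', map_mul, map_inv, map_pow, mul_inv_cancel_left, map_mul, map_mul, map_inv,
          inv_mul_cancel_right])
      simp only [g, a]
      rw [← map_mul, h, map_mul, map_mul, hcc, mul_one, map_pow]
    by_cases hb1 : (b : ZMod s) = 1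
    · have hbs : b % s = 1 := by
        have h := (ZMod.natCast_eq_natCast_iff' b 1 s).1 (by rw [Nat.cast_one]; exact hb1)
        rwa [Nat.mod_eq_of_lt hs.one_lt] at h
      have has : a ^ s = 1 := by
        have := geom_sum_mul a s
        rwa [ha, zero_mul, eq_comm, sub_eq_zero] at this
      obtain ⟨i, hi⟩ := hker (a w) (by
        rw [← end_mul_apply, hga, end_mul_apply, hgw, pow_eq_pow_mod b has, hbs,
          pow_one])
      have hi' : qz G (F.y * R.x * F.y⁻¹) = qz G (R.x ^ i) := by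
        rw [map_zpow, map_mul, map_mul, map_inv]
        exact hi
      set z₀ := (R.x ^ i)⁻¹ * (F.y * R.x * F.y⁻¹) with hz₀
      have hz₀Z : z₀ ∈ center G := QuotientGroup.eq.1 hi'.symm
      set z := R.y * R.x * R.y⁻¹ * R.x⁻¹ with hz
      have hzZ : z ∈ center G := R.hcen R.y R.hyS
      have hzc : ∀ v, Commute z v := fun v => (mem_center_iff.1 hzZ v).symm
      have hgx : R.y * R.x * R.y⁻¹ = z * R.x := by rw [hz]; group
      have hcx : c * R.x * c⁻¹ = R.x := mul_inv_eq_iff_eq_mul.2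
        (S.rpart_comm F.hxr F.hxZ hr hrp hRx hb').symm
      have hyb : F.y ^ b * R.x * (F.y ^ b)⁻¹ = F.y * R.x * F.y⁻¹ := by
        have hq : Commute ((F.y ^ s) ^ (b / s)) R.x :=
          (mem_center_iff.1 (pow_mem F.hys _) R.x).symm
        conv_lhs => rw [← Nat.mod_add_div b s, hbs, pow_add, pow_one, pow_mul]
        calc F.y * (F.y ^ s) ^ (b / s) * R.x * (F.y * (F.y ^ s) ^ (b / s))⁻¹
            = F.y * ((F.y ^ s) ^ (b / s) * R.x * ((F.y ^ s) ^ (b / s))⁻¹) * F.y⁻¹ := by group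
          _ = _ := by rw [hq.eq, mul_inv_cancel_right]
      have hy'c : y' = F.y ^ b * c := (mul_inv_cancel_left _ _).symm
      have e1 : R.y * (F.y * R.x * F.y⁻¹) * R.y⁻¹ = z * (F.y * R.x * F.y⁻¹) := by
        calc R.y * (F.y * R.x * F.y⁻¹) * R.y⁻¹ = y' * (R.y * R.x * R.y⁻¹) * y'⁻¹ := by
              rw [hy']; group
          _ = z * (y' * R.x * y'⁻¹) := by
              rw [hgx, ← mul_assoc, ← (hzc y').eq]; group
          _ = z * (F.y ^ b * (c * R.x * c⁻¹) * (F.y ^ b)⁻¹) := by rw [hy'c]; group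
          _ = _ := by rw [hcx, hyb]
      have e0 : F.y * R.x * F.y⁻¹ = R.x ^ i * z₀ := (mul_inv_cancel_left _ _).symm
      have e2 : R.y * (R.x ^ i * z₀) * R.y⁻¹ = z ^ i * (R.x ^ i * z₀) := by
        calc R.y * (R.x ^ i * z₀) * R.y⁻¹ = R.y * R.x ^ i * (z₀ * R.y⁻¹) := by group
          _ = R.y * R.x ^ i * R.y⁻¹ * z₀ := by rw [← mem_center_iff.1 hz₀Z R.y⁻¹]; group
          _ = (R.y * R.x * R.y⁻¹) ^ i * z₀ := by rw [conj_zpow]
          _ = _ := by rw [hgx, (hzc R.x).mul_zpow, mul_assoc]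
      rw [e0, e2] at e1
      have hzi : z ^ i = z ^ (1 : ℤ) := by rw [zpow_one]; exact mul_right_cancel e1
      have hz1 : z ≠ 1 := fun h => R.hy (mem_cent.2 (by
        rw [h, one_mul] at hgx
        exact (mul_inv_eq_iff_eq_mul.1 hgx).symm))
      have hzr : z ^ r = 1 := by
        have h := (hzc R.x).mul_pow r
        rw [← hgx, conj_pow, mem_center_iff.1 R.hxs R.y, mul_inv_cancel_right] at h
        exact mul_eq_right.1 h.symm
      rw [zpow_eq_zpow_iff_modEq, orderOf_eq_prime hzr hz1, ← R.orderOf_qz_x,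
        ← zpow_eq_zpow_iff_modEq, zpow_one] at hzi
      refine R.hxZ (F.fix_eq_one hr hrp hlt.ne F.hyS F.hy hRx (qz_comm_iff.2 ?_))
      have h3 := hi'
      rw [map_zpow, hzi, map_mul, map_mul, map_inv] at h3
      exact mul_inv_eq_iff_eq_mul.1 h3
    · exact hw0 (fixed_eq_zero hlt.ne a g ha hg hga hb1 w hgw (hVr w))

theorem Hyp.false_of_two_primes (S : Hyp G p m) (hr : r.Prime) (hs : s.Prime) (hrp : r ≠ p)
    (hsp : s ≠ p) (hrs : r ≠ s) (hrm : r ∣ m) (hsm : s ∣ m) : False := by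
  haveI := Fact.mk hr
  haveI := Fact.mk hs
  rcases hrs.lt_or_gt with h | h
  · exact S.false_of_lt hrp hsp h hrm hsm
  · exact S.false_of_lt hsp hrp h hsm hrm

end Cfsg.Agent.ClassSize.RegTwo
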