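import Cfsg.Agent.Lib.ClassSize.RegTwo.Build

/-!
# Two class sizes of `p`-regular elements: the automiser of `⟨x, y⟩`

If the image of the `s`-part of `C(x)` modulo the centre is bigger than `⟨x⟩`, then some element
normalising `C(x)` raises `y` to any given power prime to `s` modulo the centre.
-/

set_option autoImplicit false
set_option linter.style.haveILetI false
set_option linter.unusedSectionVars false

namespace Cfsg.Agent.ClassSize.RegTwo

open Subgroup
open Cfsg.Agent.ClassSize.CoprimeTop (cent cl mem_cent self_mem_cent center_le_cent)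
open Cfsg.Agent.ClassSize.TwoSteps (IsPEl isPEl_of_mem)

variable {G : Type*} [Group G] [Finite G] {p m s : ℕ}

namespace Frame

variable (F : Frame G p m s) (hsm : s ∣ m)

/-- The image of the `s`-part is more than `⟨x⟩`. -/
def Big : Prop := ¬ (rpart s F.x).map (qz G) ≤ zpowers (qz G F.x)

theorem card_img_mul (hw : Reg p F.x) :
    Nat.card ((rpart s F.x).map (qz G)) * Nat.card ↥(rpart s F.x ⊓ center G) =
      Nat.card (rpart s F.x) := by
  have h1 := card_mul_index ((center G).subgroupOf (rpart s F.x))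
  rw [← relIndex, ← inf_subgroupOf_left, Nat.card_congr
    (subgroupOfEquivOfLe (inf_le_left : rpart s F.x ⊓ center G ≤ rpart s F.x)).toEquiv] at h1
  have h2 : Nat.card ((rpart s F.x).map (qz G)) = (center G).relIndex (rpart s F.x) := by
    rw [← relIndex_ker, QuotientGroup.ker_mk']
  rw [h2, mul_comm, h1]

theorem card_img_eq (F' : Frame G p m s) :
    Nat.card ((rpart s F.x).map (qz G)) = Nat.card ((rpart s F'.x).map (qz G)) := by
  haveI := Fact.mk F.sp
  have hinf : rpart s F.x ⊓ center G = rpart s F'.x ⊓ center G := by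
    ext g
    simp only [mem_inf]
    exact ⟨fun h => ⟨mem_rpart_of (center_le_cent _ h.2)
        ((F.hyp.mem_rpart F.hxr F.hxZ F.sp F.sne).1 h.1).2, h.2⟩,
      fun h => ⟨mem_rpart_of (center_le_cent _ h.2)
        ((F.hyp.mem_rpart F'.hxr F'.hxZ F.sp F.sne).1 h.1).2, h.2⟩⟩
  have h1 := F.card_img_mul F.hxr
  have h2 := F'.card_img_mul F'.hxr
  rw [hinf, F.hyp.card_rpart F.hxr F.hxZ F.sp F.sne,
    F.hyp.pp_cent_eq F.hxr F.hxZ F'.hxr F'.hxZ,
    ← F.hyp.card_rpart F'.hxr F'.hxZ F.sp F.sne, ← h2] at h1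
  exact Nat.eq_of_mul_eq_mul_right Nat.card_pos h1

theorem zpowers_le_img : zpowers (qz G F.x) ≤ (rpart s F.x).map (qz G) :=
  zpowers_le.2 (mem_map_of_mem _ (F.mem_rpart_of_mem F.hxS (self_mem_cent _)))

variable {F} in
theorem Big.of_other (hb : F.Big) (F' : Frame G p m s) : F'.Big := fun h => hb (by
  refine (eq_of_le_of_card_ge F.zpowers_le_img ?_).ge
  rw [F.card_img_eq F', Nat.card_zpowers, F.orderOf_qz_x]
  exact (card_le_of_le h).trans_eq (by rw [Nat.card_zpowers, F'.orderOf_qz_x]))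

include hsm

theorem exists_transvection (hb : F.Big) (k : ℤ) : ∃ c : G,
    qz G c * qz G F.x * (qz G c)⁻¹ = qz G F.x ∧
    qz G c * qz G F.y * (qz G c)⁻¹ = qz G F.x ^ k * qz G F.y := by
  haveI := Fact.mk F.sp
  set P := (F.syl : Subgroup G)
  let f : P →* G ⧸ center G := (qz G).comp P.subtype
  set D : Subgroup P := (zpowers (qz G F.x)).comap f with hD
  haveI : D.Normal := ⟨fun a ha g => by
    obtain ⟨i, hi⟩ := mem_zpowers_iff.1 (mem_comap.1 ha)
    refine mem_comap.2 (mem_zpowers_iff.2 ⟨i, ?_⟩)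
    rw [map_mul, map_mul, map_inv, ← hi]
    have hg : Commute (f g) (qz G F.x) := qz_comm_iff.1 (F.hcen g g.2)
    rw [(hg.zpow_right i).eq, mul_inv_cancel_right]⟩
  haveI : ((rpart s F.x).subgroupOf P).Normal :=
    F.hyp.normal_rpart F.sne hsm F.syl F.hxr F.hxZ F.rpart_le_syl
  have hne : ¬ (rpart s F.x).subgroupOf P ≤ D := fun h => hb (by
    rintro _ ⟨u, hu, rfl⟩
    exact mem_comap.1 (h (show (⟨u, F.rpart_le_syl hu⟩ : P) ∈ _ from mem_subgroupOf.2 hu)))
  obtain ⟨u, hu, huD, -, hc⟩ := exists_central_mod F.syl.2 D _ hne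
  have hu' : (u : G) ∈ rpart s F.x := mem_subgroupOf.1 hu
  obtain ⟨i, hi⟩ := mem_zpowers_iff.1 (mem_comap.1 (hc ⟨F.y, F.hyS⟩))
  have hi' : qz G F.x ^ i = qz G F.y * qz G u * (qz G F.y)⁻¹ * (qz G u)⁻¹ := by
    rw [hi]
    simp [f]
  have hXu : Commute (qz G F.x) (qz G (u : G)) := (qz_comm_iff.1 (F.hcen _ u.2)).symm
  have hXY : Commute (qz G F.x) (qz G F.y) := (qz_comm_iff.1 (F.hcen _ F.hyS)).symm
  set X := qz G F.x
  set Y := qz G F.y
  set U := qz G (u : G)
  have hUY : U * Y * U⁻¹ = X ^ (-i) * Y := by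
    rw [zpow_neg, hi']
    group
  have hs0 : ¬ (s : ℤ) ∣ i := by
    rintro ⟨d, rfl⟩
    rw [zpow_mul, zpow_natCast, F.qz_x_pow, one_zpow] at hi'
    have hc1 : U * Y = Y * U := by
      rw [eq_comm, ← mul_inv_eq_one, mul_inv_rev, ← mul_assoc]
      exact hi'.symm
    obtain ⟨j, hj⟩ := F.one_dim hsm hu' (qz_comm_iff.2 hc1)
    exact huD (mem_comap.2 (mem_zpowers_iff.2 ⟨j, hj.symm⟩))
  have hpow : ∀ n : ℕ, U ^ n * X * (U ^ n)⁻¹ = X ∧ U ^ n * Y * (U ^ n)⁻¹ = X ^ (-i * n) * Y := by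
    intro n
    refine ⟨by rw [(hXu.pow_right n).symm.eq, mul_inv_cancel_right], ?_⟩
    induction n with
    | zero => simp
    | succ n ih =>
      calc U ^ (n + 1) * Y * (U ^ (n + 1))⁻¹ = U * (U ^ n * Y * (U ^ n)⁻¹) * U⁻¹ := by
            rw [pow_succ']; group
        _ = U * X ^ (-i * n) * Y * U⁻¹ := by rw [ih]; group
        _ = X ^ (-i * n) * (U * Y * U⁻¹) := by rw [(hXu.zpow_left _).symm.eq]; group
        _ = X ^ (-i * (n + 1 : ℕ)) * Y := by
            rw [hUY, ← mul_assoc, ← zpow_add]; push_cast; ring_nf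
  obtain ⟨a, b, hab⟩ : ∃ a b : ℤ, a * i + b * (s : ℤ) = 1 :=
    Int.isCoprime_iff_gcd_eq_one.2 (by
      rw [Int.gcd_comm]
      exact (Nat.coprime_iff_gcd_eq_one.1 ((F.sp.coprime_iff_not_dvd).2 fun h => hs0
        (Int.natCast_dvd.2 h))))
  have hs1 : (0 : ℤ) < s := by exact_mod_cast F.sp.pos
  refine ⟨(u : G) ^ ((-a * k) % (s : ℤ)).toNat, ?_⟩
  obtain ⟨h1, h2⟩ := hpow ((-a * k) % (s : ℤ)).toNat
  rw [map_pow]
  refine ⟨h1, h2.trans (congrArg (· * Y) ?_)⟩
  rw [Int.toNat_of_nonneg (Int.emod_nonneg _ hs1.ne')]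
  refine zpow_eq_zpow_iff_modEq.2 ?_
  rw [F.orderOf_qz_x]
  refine ((Int.mod_modEq _ _).mul_left _).trans ((Int.modEq_iff_dvd).2 ⟨b * k, ?_⟩)
  linear_combination (-k) * hab

theorem exists_torus (hb : F.Big) (e f : ℤ) (k : ℤ) (hef : e * f = 1 + s * k) : ∃ t : G,
    t ∈ normalizer (cent F.x : Set G) ∧ qz G t * qz G F.y * (qz G t)⁻¹ = qz G F.y ^ f := by
  obtain ⟨F', hx', hy'⟩ := F.exists_swap hsm
  have hT := F.exists_transvection hsm hb
  have hU := F'.exists_transvection hsm (hb.of_other F')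
  rw [hx', hy'] at hU
  choose T hTX hTY using hT
  choose U hUY hUX using hU
  set X := qz G F.x with hX
  set Y := qz G F.y with hY
  have hXY : Commute X Y := (qz_comm_iff.1 (F.hcen _ F.hyS)).symm
  have hXs : X ^ (s : ℤ) = 1 := by rw [zpow_natCast]; exact F.qz_x_pow
  have hYs : Y ^ (s : ℤ) = 1 := by rw [zpow_natCast, hY, ← map_pow]; exact qz_eq_one.2 F.hys
  -- action on `X ^ a * Y ^ c`
  have hTact : ∀ j a c : ℤ, qz G (T j) * (X ^ a * Y ^ c) * (qz G (T j))⁻¹ =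
      X ^ (a + j * c) * Y ^ c := by
    intro j a c
    have : qz G (T j) * (X ^ a * Y ^ c) * (qz G (T j))⁻¹ =
        (qz G (T j) * X * (qz G (T j))⁻¹) ^ a * (qz G (T j) * Y * (qz G (T j))⁻¹) ^ c := by
      rw [conj_zpow, conj_zpow]; group
    rw [this, hTX, hTY, (hXY.zpow_left j).mul_zpow, ← zpow_mul, ← mul_assoc, ← zpow_add]
  have hUact : ∀ j a c : ℤ, qz G (U j) * (X ^ a * Y ^ c) * (qz G (U j))⁻¹ =
      X ^ a * Y ^ (c + j * a) := by
    intro j a c
    have : qz G (U j) * (X ^ a * Y ^ c) * (qz G (U j))⁻¹ =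
        (qz G (U j) * X * (qz G (U j))⁻¹) ^ a * (qz G (U j) * Y * (qz G (U j))⁻¹) ^ c := by
      rw [conj_zpow, conj_zpow]; group
    rw [this, hUY, hUX, (hXY.zpow_right j).symm.mul_zpow, ← zpow_mul,
      (hXY.zpow_zpow a (j * a)).symm.eq, mul_assoc, ← zpow_add, add_comm (j * a) c]
  have hall : ∀ a c : ℤ, qz G (U (f - 1) * T 1 * U (e - 1) * T (-f)) * (X ^ a * Y ^ c) *
      (qz G (U (f - 1) * T 1 * U (e - 1) * T (-f)))⁻¹ =
      X ^ (a + -f * c + 1 * (c + (e - 1) * (a + -f * c))) *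
        Y ^ (c + (e - 1) * (a + -f * c) +
          (f - 1) * (a + -f * c + 1 * (c + (e - 1) * (a + -f * c)))) := by
    intro a c
    rw [← hUact, ← hTact, ← hUact, ← hTact]
    simp only [map_mul]
    group
  refine ⟨U (f - 1) * T 1 * U (e - 1) * T (-f), ?_, ?_⟩
  · set n := U (f - 1) * T 1 * U (e - 1) * T (-f)
    have h1 : qz G (n * F.x * n⁻¹) = qz G (F.x ^ e) := by
      have h := hall 1 0
      rw [zpow_one, zpow_zero, mul_one] at h
      rw [map_mul, map_mul, map_inv, map_zpow, h,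
        show (1 : ℤ) + -f * 0 + 1 * (0 + (e - 1) * (1 + -f * 0)) = e by ring,
        show (0 : ℤ) + (e - 1) * (1 + -f * 0) + (f - 1) * e = (s : ℤ) * k by
          linear_combination hef,
        zpow_mul, hYs, one_zpow, mul_one]
    refine F.hyp.mem_normalizer F.hxr F.hxZ F.hxr F.hxZ (self_mem_cent _) ?_
    obtain ⟨z, hz, he⟩ : ∃ z ∈ center G, F.x ^ e * z = n * F.x * n⁻¹ :=
      ⟨(F.x ^ e)⁻¹ * (n * F.x * n⁻¹), QuotientGroup.eq.1 h1.symm, mul_inv_cancel_left _ _⟩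
    rw [← he]
    exact mul_mem (zpow_mem (self_mem_cent _) e) (center_le_cent _ hz)
  · have h := hall 0 1
    rw [zpow_one, zpow_zero, one_mul] at h
    rw [h, show (0 : ℤ) + -f * 1 + 1 * (1 + (e - 1) * (0 + -f * 1)) = (s : ℤ) * -k by
        linear_combination -hef,
      zpow_mul, hXs, one_zpow, one_mul,
      show (1 : ℤ) + (e - 1) * (0 + -f * 1) + (f - 1) * ((s : ℤ) * -k) = f + (s : ℤ) * (-f * k) by
        linear_combination -hef,
      zpow_add, zpow_mul, hYs, one_zpow, mul_one]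

end Frame

end Cfsg.Agent.ClassSize.RegTwo
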